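import Groth.Agent.OrdDet.Main
import Groth.Agent.OrdDet.Lattice
import Mathlib.LinearAlgebra.Determinant
import Mathlib.LinearAlgebra.Matrix.Basis

/-!
# The order of a module relative to a basis of its generic fibre

For a one-dimensional Noetherian domain `R` with fraction field `K` and a finite module `N` with
generic fibre `τ : N → V`, a basis `b` of `V` gives an integer: length of `N / span s` minus the order
of `det_b (τ ∘ s)`, for any family `s` in `N` whose image is a basis of `V`.
-/

set_option autoImplicit false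
set_option backward.isDefEq.respectTransparency false
set_option linter.style.haveILetI false
set_option linter.unusedSectionVars false
universe u

noncomputable section

namespace Groth.Agent.DivClassKLib

open Module

variable {R : Type u} [CommRing R] [IsDomain R] [IsNoetherianRing R] [Ring.KrullDimLE 1 R]
variable (K : Type u) [Field K] [Algebra R K] [IsFractionRing R K]

/-- The order of a nonzero element of the fraction field. -/
abbrev ordK (R : Type u) [CommRing R] (K : Type u) [Field K] [Algebra R K] (a : K) : ℤ := CycAlg.ordFrac R K a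

theorem exists_frac (a : K) (ha : a ≠ 0) : ∃ p q : R, p ≠ 0 ∧ q ≠ 0 ∧ a = algebraMap R K p / algebraMap R K q := by
  obtain ⟨p, q, hq, rfl⟩ := IsFractionRing.div_surjective (A := R) (K := K) a
  exact ⟨p, q, fun h => ha (by simp [h]), nonZeroDivisors.ne_zero hq, rfl⟩

theorem ordK_algebraMap (p : R) (hp : p ≠ 0) : ordK R K (algebraMap R K p) = ((Ring.ord R p).toNat : ℤ) := by
  have h := OrdDet.ordFrac_div (K := K) p 1 hp one_ne_zero
  rw [map_one, div_one, Ring.ord_one] at h
  simpa using h

theorem ordK_mul {a b : K} (ha : a ≠ 0) (hb : b ≠ 0) : ordK R K (a * b) = ordK R K a + ordK R K b := by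
  obtain ⟨p, q, hp, hq, rfl⟩ := exists_frac (R := R) K a ha
  obtain ⟨p', q', hp', hq', rfl⟩ := exists_frac (R := R) K b hb
  rw [div_mul_div_comm, ← map_mul, ← map_mul, ordK, ordK, ordK, OrdDet.ordFrac_div _ _ (mul_ne_zero hp hp') (mul_ne_zero hq hq'),
    OrdDet.ordFrac_div _ _ hp hq, OrdDet.ordFrac_div _ _ hp' hq',
    Ring.ord_mul R (mem_nonZeroDivisors_of_ne_zero hp'), Ring.ord_mul R (mem_nonZeroDivisors_of_ne_zero hq'),
    ENat.toNat_add (Ring.ord_ne_top (mem_nonZeroDivisors_of_ne_zero hp)) (Ring.ord_ne_top (mem_nonZeroDivisors_of_ne_zero hp')),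
    ENat.toNat_add (Ring.ord_ne_top (mem_nonZeroDivisors_of_ne_zero hq)) (Ring.ord_ne_top (mem_nonZeroDivisors_of_ne_zero hq'))]
  push_cast
  ring

theorem ordK_one : ordK R K (1 : K) = 0 := by
  have h := ordK_mul (R := R) K (one_ne_zero (α := K)) (one_ne_zero (α := K))
  rw [one_mul] at h
  linarith

/-- `τ : N → V` is a generic fibre of the module `N`. -/
structure IsGenFibre {N V : Type u} [AddCommGroup N] [Module R N] [AddCommGroup V] [Module R V]
    (τ : N →ₗ[R] V) : Prop where
  ker : ∀ m, τ m = 0 → ∃ c : R, c ≠ 0 ∧ c • m = 0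
  range : ∀ v, ∃ (c : R) (m : N), c ≠ 0 ∧ c • v = τ m

variable {N V : Type u} [AddCommGroup N] [Module R N] [Module.Finite R N] [AddCommGroup V] [Module K V]
  [Module R V] [IsScalarTower R K V] (τ : N →ₗ[R] V)
variable {ι : Type u} [Fintype ι] [DecidableEq ι] (b : Basis ι K V)

/-- Families in `N` giving bases of the generic fibre. -/
def Good (s : ι → N) : Prop := b.det (τ ∘ s) ≠ 0

/-- The value computed from a family. -/
def valOf (s : ι → N) : ℤ :=
  ((Module.length R (N ⧸ Submodule.span R (Set.range s))).toNat : ℤ) - ordK R K (b.det (τ ∘ s))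

variable {K τ b}

theorem Good.indep {s : ι → N} (hs : Good K τ b s) : LinearIndependent K (τ ∘ s) :=
  ((Module.Basis.is_basis_iff_det b).2 (isUnit_iff_ne_zero.2 hs)).1

theorem Good.span {s : ι → N} (hs : Good K τ b s) : Submodule.span K (Set.range (τ ∘ s)) = ⊤ :=
  ((Module.Basis.is_basis_iff_det b).2 (isUnit_iff_ne_zero.2 hs)).2

theorem Good.eq_zero {s : ι → N} (hs : Good K τ b s) {a : ι → R} (h : τ (∑ i, a i • s i) = 0) : a = 0 := by
  funext i
  refine IsFractionRing.injective R K ((Fintype.linearIndependent_iff.1 hs.indep (fun j => algebraMap R K (a j)) ?_ i).trans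
    (map_zero _).symm)
  simpa only [map_sum, map_smul, Function.comp_apply, algebraMap_smul] using h

theorem Good.length_ne_top (hτ : IsGenFibre τ) {s : ι → N} (hs : Good K τ b s) :
    Module.length R (N ⧸ Submodule.span R (Set.range s)) ≠ ⊤ := by
  classical
  obtain ⟨S, hS⟩ := Module.Finite.fg_top (R := R) (M := N)
  let P := Submodule.span R (Set.range s)
  have key : ∀ m : N, ∃ c : R, c ≠ 0 ∧ c • m ∈ P := fun m => by
    have hsp : Submodule.span K ((P.map τ : Submodule R V) : Set V) = ⊤ := by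
      refine eq_top_iff.2 (hs.span.symm.le.trans (Submodule.span_mono ?_))
      rintro _ ⟨i, rfl⟩
      exact ⟨s i, Submodule.subset_span ⟨i, rfl⟩, rfl⟩
    obtain ⟨c, hc, p, hp, hpc⟩ := OrdDet.exists_smul_mem_of_span (K := K) (P.map τ) hsp (τ m)
    obtain ⟨d, hd, hdm⟩ := hτ.ker (c • m - p) (by rw [map_sub, map_smul, hpc, sub_self])
    refine ⟨d * c, mul_ne_zero hd hc, ?_⟩
    rw [smul_sub, sub_eq_zero] at hdm
    rw [mul_smul, hdm]
    exact P.smul_mem d hp
  choose c hc hcP using key
  refine TFLib.length_ne_top_of_smul_eq_zero (r := ∏ m ∈ S, c m) (Finset.prod_ne_zero_iff.mpr fun m _ => hc m)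
    fun q => ?_
  induction q using Submodule.Quotient.induction_on with
  | H y =>
    rw [← Submodule.Quotient.mk_smul, Submodule.Quotient.mk_eq_zero]
    have hle : (⊤ : Submodule R N) ≤ P.comap (LinearMap.lsmul R N (∏ m ∈ S, c m)) := by
      rw [← hS, Submodule.span_le]
      intro z hz
      show (∏ m ∈ S, c m) • z ∈ P
      rw [← Finset.prod_erase_mul S c hz, mul_smul]
      exact P.smul_mem _ (hcP z)
    exact hle (Submodule.mem_top (x := y))

theorem det_trans {s t : ι → N} (S : Matrix ι ι R) (h : ∀ i, t i = ∑ j, S j i • s j) :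
    b.det (τ ∘ t) = b.det (τ ∘ s) * algebraMap R K S.det := by
  have e : b.toMatrix (τ ∘ t) = b.toMatrix (τ ∘ s) * S.map (algebraMap R K) := by
    ext k i
    simp only [Basis.toMatrix_apply, Function.comp_apply, h, map_sum, map_smul, Matrix.mul_apply, Matrix.map_apply,
      Finsupp.coe_finset_sum, Finset.sum_apply]
    refine Finset.sum_congr rfl fun j _ => ?_
    rw [← algebraMap_smul K (S j i) (τ (s j)), map_smul, Finsupp.smul_apply, smul_eq_mul, mul_comm]
  rw [Basis.det_apply, Basis.det_apply, e, Matrix.det_mul, ← RingHom.mapMatrix_apply, ← RingHom.map_det]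

theorem valOf_trans (hτ : IsGenFibre τ) {s t : ι → N} (hs : Good K τ b s) (S : Matrix ι ι R) (hS : S.det ≠ 0)
    (h : ∀ i, t i = ∑ j, S j i • s j) : Good K τ b t ∧ valOf K τ b t = valOf K τ b s := by
  have hd := det_trans (τ := τ) (b := b) S h
  have hS' : algebraMap R K S.det ≠ 0 := fun h0 => hS (IsFractionRing.injective R K (h0.trans (map_zero _).symm))
  have ht : Good K τ b t := fun h0 => mul_ne_zero hs hS' (hd.symm.trans h0)
  refine ⟨ht, ?_⟩
  let f : (ι → R) →ₗ[R] N := Fintype.linearCombination R s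
  have hf : ∀ a, f a = ∑ j, a j • s j := fun a => Fintype.linearCombination_apply R s a
  have hfi : Function.Injective f := by
    refine (injective_iff_map_eq_zero f).2 fun a ha => hs.eq_zero ?_
    rw [← hf, ha, map_zero]
  let φ := Matrix.mulVecLin S
  have hrf : LinearMap.range f = Submodule.span R (Set.range s) := Fintype.range_linearCombination R s
  have hrt : LinearMap.range (f ∘ₗ φ) = Submodule.span R (Set.range t) := by
    rw [LinearMap.range_comp, Matrix.range_mulVecLin, Submodule.map_span, ← Set.range_comp]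
    refine congrArg _ (congrArg _ (funext fun i => ?_))
    rw [Function.comp_apply, hf, h]
    rfl
  let g := Submodule.mapQ (LinearMap.range φ) (LinearMap.range (f ∘ₗ φ)) f (by
    rintro _ ⟨a, rfl⟩
    exact ⟨a, rfl⟩)
  let q : (N ⧸ LinearMap.range (f ∘ₗ φ)) →ₗ[R] (N ⧸ LinearMap.range f) := Submodule.factor (LinearMap.range_comp_le_range φ f)
  have hg : Function.Injective g := by
    refine (injective_iff_map_eq_zero g).2 fun z hz => ?_
    induction z using Submodule.Quotient.induction_on with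
    | H a =>
      rw [Submodule.mapQ_apply, Submodule.Quotient.mk_eq_zero] at hz
      obtain ⟨c, hc⟩ := hz
      rw [Submodule.Quotient.mk_eq_zero]
      exact ⟨c, hfi hc⟩
  have hq : Function.Surjective q := fun z => by
    obtain ⟨m, rfl⟩ := Submodule.Quotient.mk_surjective _ z
    exact ⟨Submodule.Quotient.mk m, rfl⟩
  have hex : Function.Exact g q := fun z => by
    induction z using Submodule.Quotient.induction_on with
    | H m =>
      show Submodule.Quotient.mk m = 0 ↔ _
      rw [Submodule.Quotient.mk_eq_zero]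
      constructor
      · rintro ⟨a, rfl⟩
        exact ⟨Submodule.Quotient.mk a, rfl⟩
      · rintro ⟨w, hw⟩
        obtain ⟨a, rfl⟩ := Submodule.Quotient.mk_surjective _ w
        rw [Submodule.mapQ_apply, Submodule.Quotient.eq] at hw
        obtain ⟨c, hc⟩ := hw
        refine ⟨a - φ c, ?_⟩
        rw [map_sub, show f (φ c) = f a - m from hc, sub_sub_cancel]
  let e := Fintype.equivFin ι
  have hlen : Module.length R ((ι → R) ⧸ LinearMap.range φ) = Ring.ord R S.det := by
    let E := LinearEquiv.funCongrLeft R R e.symm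
    let φ' := E.toLinearMap ∘ₗ φ ∘ₗ E.symm.toLinearMap
    have hdet : LinearMap.det φ' = S.det := by
      rw [LinearMap.det_conj, show φ = Matrix.toLin' S from (Matrix.toLin'_apply' S).symm, LinearMap.det_toLin']
    rw [← hdet, ← OrdDet.length_coker_eq_ord φ' (by rw [hdet]; exact mem_nonZeroDivisors_of_ne_zero hS)]
    exact (Submodule.Quotient.equiv _ _ E (by
      show (LinearMap.range φ).map E.toLinearMap = LinearMap.range φ'
      rw [← LinearMap.range_comp, ← LinearMap.range_comp_of_range_eq_top (E.toLinearMap ∘ₗ φ) E.symm.range, LinearMap.comp_assoc])).length_eq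
  have hl := Module.length_eq_add_of_exact g q hg hq hex
  rw [hlen] at hl
  have e1 : Module.length R (N ⧸ LinearMap.range (f ∘ₗ φ)) = Module.length R (N ⧸ Submodule.span R (Set.range t)) :=
    (Submodule.quotEquivOfEq _ _ hrt).length_eq
  have e2 : Module.length R (N ⧸ LinearMap.range f) = Module.length R (N ⧸ Submodule.span R (Set.range s)) :=
    (Submodule.quotEquivOfEq _ _ hrf).length_eq
  rw [e1, e2] at hl
  rw [valOf, valOf, hl, ENat.toNat_add (Ring.ord_ne_top (mem_nonZeroDivisors_of_ne_zero hS)) (hs.length_ne_top hτ), hd,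
    ordK_mul K hs hS', ordK_algebraMap K _ hS]
  push_cast
  ring

theorem valOf_unique (hτ : IsGenFibre τ) {s s' : ι → N} (hs : Good K τ b s) (hs' : Good K τ b s') :
    valOf K τ b s = valOf K τ b s' := by
  classical
  have key : ∀ i, ∃ (c : R) (a : ι → R), c ≠ 0 ∧ c • s' i = ∑ j, a j • s j := fun i => by
    let P := Submodule.span R (Set.range s)
    have hsp : Submodule.span K ((P.map τ : Submodule R V) : Set V) = ⊤ := by
      refine eq_top_iff.2 (hs.span.symm.le.trans (Submodule.span_mono ?_))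
      rintro _ ⟨j, rfl⟩
      exact ⟨s j, Submodule.subset_span ⟨j, rfl⟩, rfl⟩
    obtain ⟨c, hc, p, hp, hpc⟩ := OrdDet.exists_smul_mem_of_span (K := K) (P.map τ) hsp (τ (s' i))
    obtain ⟨d, hd, hdm⟩ := hτ.ker (c • s' i - p) (by rw [map_sub, map_smul, hpc, sub_self])
    rw [smul_sub, sub_eq_zero] at hdm
    obtain ⟨a, ha⟩ := (Submodule.mem_span_range_iff_exists_fun R).1 (P.smul_mem d hp)
    exact ⟨d * c, a, mul_ne_zero hd hc, by rw [mul_smul, hdm, ha]⟩
  choose c a hc hca using key
  let C := ∏ i, c i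
  have hC : C ≠ 0 := Finset.prod_ne_zero_iff.2 fun i _ => hc i
  let S : Matrix ι ι R := Matrix.of fun j i => (∏ k ∈ Finset.univ.erase i, c k) * a i j
  have h1 : ∀ i, C • s' i = ∑ j, S j i • s j := fun i => by
    show (∏ k, c k) • s' i = _
    rw [← Finset.prod_erase_mul _ c (Finset.mem_univ i), mul_smul, hca, Finset.smul_sum]
    exact Finset.sum_congr rfl fun j _ => smul_smul _ _ _
  have h2 : ∀ i, C • s' i = ∑ j, (Matrix.diagonal fun _ : ι => C) j i • s' j := fun i => by
    rw [Finset.sum_eq_single i (fun j _ hj => by rw [Matrix.diagonal_apply_ne _ hj, zero_smul])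
      (fun h => (h (Finset.mem_univ i)).elim), Matrix.diagonal_apply_eq]
  obtain ⟨g2, e2⟩ := valOf_trans hτ hs' (Matrix.diagonal fun _ : ι => C) (by
    rw [Matrix.det_diagonal, Finset.prod_const]; exact pow_ne_zero _ hC) (t := fun i => C • s' i) h2
  have hS : S.det ≠ 0 := fun h0 => g2 (by rw [det_trans (s := s) S h1, h0, map_zero, mul_zero])
  rw [← e2, (valOf_trans hτ hs S hS h1).2]

variable (b) in
theorem exists_good (hτ : IsGenFibre τ) : ∃ s : ι → N, Good K τ b s := by
  choose c m hc hm using fun i => hτ.range (b i)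
  refine ⟨m, ?_⟩
  have e : τ ∘ m = fun i => algebraMap R K (c i) • b i := funext fun i => by
    rw [algebraMap_smul, hm]; rfl
  rw [Good, e, AlternatingMap.map_smul_univ, b.det_self, smul_eq_mul, mul_one]
  exact Finset.prod_ne_zero_iff.2 fun i _ h0 => hc i (IsFractionRing.injective R K (h0.trans (map_zero _).symm))

open Classical in
variable (K τ b) in
/-- The order of `N` relative to the basis `b`. -/
def val : ℤ := if h : ∃ s : ι → N, Good K τ b s then valOf K τ b h.choose else 0

theorem val_eq (hτ : IsGenFibre τ) {s : ι → N} (hs : Good K τ b s) : val K τ b = valOf K τ b s := by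
  rw [val, dif_pos ⟨s, hs⟩]
  exact valOf_unique hτ (Exists.choose_spec (⟨s, hs⟩ : ∃ s : ι → N, Good K τ b s)) hs

theorem val_eq_length [IsEmpty ι] (hτ : IsGenFibre τ) : val K τ b = ((Module.length R N).toNat : ℤ) := by
  have hs : Good K τ b (fun i => isEmptyElim i) := by
    rw [Good, Basis.det_apply, Matrix.det_isEmpty]
    exact one_ne_zero
  rw [val_eq hτ hs, valOf, Basis.det_apply, Matrix.det_isEmpty, ordK_one, sub_zero]
  have h0 : Submodule.span R (Set.range fun i : ι => (isEmptyElim i : N)) = ⊥ := by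
    rw [Set.range_eq_empty, Submodule.span_empty]
  exact congrArg (fun n : ℕ∞ => (n.toNat : ℤ)) (Submodule.quotEquivOfEqBot _ h0).length_eq

theorem val_change {κ : Type u} [Fintype κ] [DecidableEq κ] (hτ : IsGenFibre τ) (b' : Basis κ K V) (σ : ι ≃ κ) :
    val K τ b' = val K τ b - ordK R K (b'.det ((b.reindex σ) : κ → V)) := by
  obtain ⟨s, hs⟩ := exists_good b hτ
  have e1 : (b.reindex σ).det (τ ∘ (s ∘ σ.symm)) = b.det (τ ∘ s) := by
    rw [Basis.det_reindex]
    refine congrArg b.det (funext fun i => ?_)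
    simp
  have hd := DFunLike.congr_fun (b'.det.eq_smul_basis_det (b.reindex σ)) (τ ∘ (s ∘ σ.symm))
  rw [AlternatingMap.smul_apply, e1, smul_eq_mul] at hd
  have hu : b'.det ((b.reindex σ) : κ → V) ≠ 0 := IsUnit.ne_zero
    ((Module.Basis.is_basis_iff_det b').1 ⟨(b.reindex σ).linearIndependent, (b.reindex σ).span_eq⟩)
  have hg : Good K τ b' (s ∘ σ.symm) := fun h0 => mul_ne_zero hu hs (hd.symm.trans h0)
  rw [val_eq hτ hs, val_eq hτ hg, valOf, valOf, hd, ordK_mul K hu hs, Set.range_comp, Equiv.range_eq_univ,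
    Set.image_univ]
  ring

section Add

variable {N₁ N₃ V₁ V₃ : Type u} [AddCommGroup N₁] [Module R N₁] [Module.Finite R N₁] [AddCommGroup V₁] [Module K V₁]
  [Module R V₁] [IsScalarTower R K V₁] [AddCommGroup N₃] [Module R N₃] [Module.Finite R N₃] [AddCommGroup V₃]
  [Module K V₃] [Module R V₃] [IsScalarTower R K V₃]
variable {τ₁ : N₁ →ₗ[R] V₁} {τ₃ : N₃ →ₗ[R] V₃} {ι₁ ι₃ : Type u} [Fintype ι₁] [DecidableEq ι₁] [Fintype ι₃]
  [DecidableEq ι₃] {b₁ : Basis ι₁ K V₁} {b₃ : Basis ι₃ K V₃} {bb : Basis (ι₁ ⊕ ι₃) K V}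

/-- Additivity along a short exact sequence, with compatible bases. -/
theorem val_add (hτ₁ : IsGenFibre τ₁) (hτ : IsGenFibre τ) (hτ₃ : IsGenFibre τ₃)
    (i : N₁ →ₗ[R] N) (p : N →ₗ[R] N₃) (hi : Function.Injective i) (hp : Function.Surjective p)
    (hex : Function.Exact i p) (I : V₁ →ₗ[K] V) (Q : V →ₗ[K] V₃) (hQI : ∀ v, Q (I v) = 0)
    (hI : ∀ m, τ (i m) = I (τ₁ m)) (hQ : ∀ m, τ₃ (p m) = Q (τ m))
    (hb₁ : ∀ j, bb (Sum.inl j) = I (b₁ j)) (hb₃ : ∀ j, Q (bb (Sum.inr j)) = b₃ j) :
    val K τ bb = val K τ₁ b₁ + val K τ₃ b₃ := by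
  obtain ⟨s₁, hs₁⟩ := exists_good b₁ hτ₁
  obtain ⟨s₃, hs₃⟩ := exists_good b₃ hτ₃
  choose l hl using hp
  let s : ι₁ ⊕ ι₃ → N := Sum.elim (i ∘ s₁) (l ∘ s₃)
  have hrepr : ∀ v : V₁, ∀ j, bb.repr (I v) j = Sum.elim (fun k => b₁.repr v k) (fun _ => 0) j := fun v j => by
    conv_lhs => rw [← b₁.sum_repr v]
    simp only [map_sum, map_smul, ← hb₁, bb.repr_self, Finsupp.coe_finset_sum, Finset.sum_apply, Finsupp.smul_apply,
      Finsupp.single_apply, smul_eq_mul]
    cases j with
    | inl k => simp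
    | inr k => simp
  have hrepr₃ : ∀ v : V, ∀ k, b₃.repr (Q v) k = bb.repr v (Sum.inr k) := fun v k => by
    conv_lhs => rw [← bb.sum_repr v]
    rw [map_sum Q, map_sum b₃.repr, Finsupp.finsetSum_apply, Fintype.sum_sum_type, Finset.sum_eq_zero, zero_add,
      Finset.sum_eq_single k]
    · rw [map_smul Q, map_smul b₃.repr, hb₃, b₃.repr_self, Finsupp.smul_apply, Finsupp.single_eq_same, smul_eq_mul,
        mul_one]
    · intro j _ hj
      rw [map_smul Q, map_smul b₃.repr, hb₃, b₃.repr_self, Finsupp.smul_apply, Finsupp.single_eq_of_ne hj.symm,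
        smul_zero]
    · intro h
      exact (h (Finset.mem_univ k)).elim
    · intro j _
      rw [map_smul Q, map_smul b₃.repr, hb₁, hQI, map_zero, smul_zero, Finsupp.zero_apply]
  have hd : bb.det (τ ∘ s) = b₁.det (τ₁ ∘ s₁) * b₃.det (τ₃ ∘ s₃) := by
    rw [Basis.det_apply, Basis.det_apply, Basis.det_apply]
    have e : bb.toMatrix (τ ∘ s) = Matrix.fromBlocks (b₁.toMatrix (τ₁ ∘ s₁))
        (Matrix.of fun k j => bb.repr (τ (l (s₃ j))) (Sum.inl k)) 0 (b₃.toMatrix (τ₃ ∘ s₃)) := by
      ext k j
      cases k <;> cases j <;>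
        simp [Basis.toMatrix_apply, s, hI, hrepr, ← hrepr₃, ← hQ, hl]
    rw [e, Matrix.det_fromBlocks_zero₂₁]
  have hs : Good K τ bb s := fun h0 => mul_ne_zero hs₁ hs₃ (hd.symm.trans h0)
  rw [val_eq hτ hs, val_eq hτ₁ hs₁, val_eq hτ₃ hs₃, valOf, valOf, valOf, hd, ordK_mul K hs₁ hs₃]
  let S₁ := Submodule.span R (Set.range s₁)
  let S := Submodule.span R (Set.range s)
  let S₃ := Submodule.span R (Set.range s₃)
  have hSi : S₁ ≤ S.comap i := Submodule.span_le.2 (by
    rintro _ ⟨j, rfl⟩
    exact Submodule.subset_span ⟨Sum.inl j, rfl⟩)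
  have hpi : ∀ m, p (i m) = 0 := fun m => hex.apply_apply_eq_zero m
  have hSp : S ≤ S₃.comap p := Submodule.span_le.2 (by
    rintro _ ⟨j | j, rfl⟩
    · simp [s, hpi]
    · show p (l (s₃ j)) ∈ S₃
      rw [hl]
      exact Submodule.subset_span ⟨j, rfl⟩)
  have hlin : ∀ a : ι₁ ⊕ ι₃ → R, p (∑ j, a j • s j) = ∑ k, a (Sum.inr k) • s₃ k := fun a => by
    simp [Fintype.sum_sum_type, s, hpi, hl]
  have hgi : Function.Injective (Submodule.mapQ S₁ S i hSi) := by
    refine (injective_iff_map_eq_zero _).2 fun z hz => ?_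
    induction z using Submodule.Quotient.induction_on with
    | H m =>
      rw [Submodule.mapQ_apply, Submodule.Quotient.mk_eq_zero] at hz
      obtain ⟨a, ha⟩ := (Submodule.mem_span_range_iff_exists_fun R).1 hz
      have h0 : (fun k => a (Sum.inr k)) = 0 := hs₃.eq_zero (by rw [← hlin, ha, hpi, map_zero])
      rw [Submodule.Quotient.mk_eq_zero]
      refine (Submodule.mem_span_range_iff_exists_fun R).2 ⟨fun k => a (Sum.inl k), hi ?_⟩
      rw [← ha, Fintype.sum_sum_type]
      simp [s, show ∀ k, a (Sum.inr k) = 0 from congrFun h0]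
  have hgp : Function.Surjective (Submodule.mapQ S S₃ p hSp) := fun z => by
    obtain ⟨m, rfl⟩ := Submodule.Quotient.mk_surjective _ z
    exact ⟨Submodule.Quotient.mk (l m), by rw [Submodule.mapQ_apply, hl]⟩
  have hgex : Function.Exact (Submodule.mapQ S₁ S i hSi) (Submodule.mapQ S S₃ p hSp) := fun z => by
    induction z using Submodule.Quotient.induction_on with
    | H m =>
      rw [Submodule.mapQ_apply, Submodule.Quotient.mk_eq_zero]
      constructor
      · intro hm
        obtain ⟨a, ha⟩ := (Submodule.mem_span_range_iff_exists_fun R).1 hm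
        obtain ⟨w, hw⟩ := (hex (m - ∑ k, a k • l (s₃ k))).1 (by simp [hl, ha])
        refine ⟨Submodule.Quotient.mk w, ?_⟩
        rw [Submodule.mapQ_apply, Submodule.Quotient.eq, hw, sub_sub_cancel_left]
        exact neg_mem (sum_mem fun k _ => Submodule.smul_mem _ _ (Submodule.subset_span ⟨Sum.inr k, rfl⟩))
      · rintro ⟨w, hw⟩
        obtain ⟨w, rfl⟩ := Submodule.Quotient.mk_surjective _ w
        rw [Submodule.mapQ_apply, Submodule.Quotient.eq] at hw
        have := hSp hw
        rw [Submodule.mem_comap, map_sub, hpi, zero_sub] at this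
        exact neg_mem_iff.1 this
  rw [Module.length_eq_add_of_exact _ _ hgi hgp hgex, ENat.toNat_add (hs₁.length_ne_top hτ₁) (hs₃.length_ne_top hτ₃)]
  push_cast
  ring

end Add

end Groth.Agent.DivClassKLib
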