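import Groth.Agent.DivClassKLib.Alg
import Groth.Agent.RefOne.Divisor
import Groth.Agent.DevLib.Apps
import Groth.Agent.K0LocLib.Basic
import Groth.Agent.K0Fam.Canon

/-!
# The divisor class of a coherent sheaf

`c1K : K₀(Coh X) → (codimension-one points → ℤ)/principal` for an integral Noetherian scheme.
-/

set_option autoImplicit false
set_option backward.isDefEq.respectTransparency false
set_option backward.isDefEq.respectTransparency.types false
set_option linter.style.haveILetI false
set_option linter.unusedSectionVars false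
universe u
open CategoryTheory CategoryTheory.Limits AlgebraicGeometry TopologicalSpace
open Groth.Agent.PullbackMod

noncomputable section

namespace Groth.Agent.DivClassKLib

variable {X : Scheme.{u}} [IsIntegral X] [IsLocallyNoetherian X]

/-- The generic stalk. -/
abbrev Gen (F : X.Modules) : Type u := F.presheaf.stalk (genericPoint X)

/-- Codimension-one points. -/
abbrev Pt1 (X : Scheme.{u}) : Type u := {y : X // Order.coheight y = 1}

instance genModule (F : X.Modules) : Module X.functionField (Gen F) :=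
  inferInstanceAs (Module (X.presheaf.stalk (genericPoint X)) (Gen F))

theorem finite_gen {F : X.Modules} (hF : Coh.IsCoh F) : Module.Finite X.functionField (Gen F) :=
  haveI := hF.1
  finite_stalk_of_isFT hF.2 (genericPoint X)

/-- The module over a local ring on the generic stalk. -/
abbrev stalkAct (F : X.Modules) (y : X) : Module (X.presheaf.stalk y) (Gen F) :=
  Module.compHom (Gen F) (RefOne.toK y)

theorem stalkAct_tower (F : X.Modules) (y : X) :
    letI := stalkAct F y
    IsScalarTower (X.presheaf.stalk y) X.functionField (Gen F) :=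
  letI := stalkAct F y
  IsScalarTower.of_algebraMap_smul fun _ _ => rfl

/-- The localisation to the generic point. -/
def tau (F : X.Modules) (y : X) :
    letI := stalkAct F y
    F.presheaf.stalk y →ₗ[X.presheaf.stalk y] Gen F :=
  letI := stalkAct F y
  { toFun := RefOne.toGen F y
    map_add' := fun a b => map_add _ a b
    map_smul' := fun a m => RefOne.toGen_smul F y a m }

theorem isGenFibre_tau {F : X.Modules} (hF : Coh.IsCoh F) (y : X) :
    letI := stalkAct F y
    IsGenFibre (tau F y) := by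
  letI := stalkAct F y
  haveI := hF.1
  exact ⟨fun m hm => RefOne.toGen_eq_zero hm, fun v => RefOne.exists_smul_mem_range y v⟩

/-- The order of `F` at `y` relative to a basis of the generic stalk. -/
def valAt (F : X.Modules) (y : X) {ι : Type u} [Fintype ι] [DecidableEq ι]
    (b : Module.Basis ι X.functionField (Gen F)) : ℤ :=
  letI := stalkAct F y
  haveI := stalkAct_tower F y
  val X.functionField (tau F y) b

/-- The principal divisors. -/
def Prin (X : Scheme.{u}) [IsIntegral X] [IsLocallyNoetherian X] : AddSubgroup (Pt1 X → ℤ) where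
  carrier := {g | ∃ φ : X.functionField, φ ≠ 0 ∧ ∀ y : Pt1 X, g y = Scheme.ord φ y.1}
  zero_mem' := ⟨1, one_ne_zero, fun y => (RefOne.scheme_ord_one y.1).symm⟩
  add_mem' := fun {a b} ⟨φ, hφ, ha⟩ ⟨ψ, hψ, hb⟩ => ⟨φ * ψ, mul_ne_zero hφ hψ, fun y => by
    rw [Pi.add_apply, ha, hb, Scheme.ord_mul hφ hψ]⟩
  neg_mem' := fun {a} ⟨φ, hφ, ha⟩ => ⟨φ⁻¹, inv_ne_zero hφ, fun y => by
    rw [Pi.neg_apply, ha, RefOne.scheme_ord_inv hφ]⟩

/-- Divisor classes. -/
abbrev Cl (X : Scheme.{u}) [IsIntegral X] [IsLocallyNoetherian X] : Type u := (Pt1 X → ℤ) ⧸ Prin X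

/-- The class relative to a basis. -/
def clsOf (F : X.Modules) {ι : Type u} [Fintype ι] [DecidableEq ι]
    (b : Module.Basis ι X.functionField (Gen F)) : Cl X :=
  QuotientAddGroup.mk fun y : Pt1 X => valAt F y.1 b

theorem clsOf_eq {F : X.Modules} (hF : Coh.IsCoh F) {ι κ : Type u} [Fintype ι] [DecidableEq ι] [Fintype κ]
    [DecidableEq κ] (b : Module.Basis ι X.functionField (Gen F)) (b' : Module.Basis κ X.functionField (Gen F)) :
    clsOf F b = clsOf F b' := by
  let σ := b.indexEquiv b'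
  refine (QuotientAddGroup.eq_iff_sub_mem).2
    ⟨b'.det ((b.reindex σ) : κ → Gen F), IsUnit.ne_zero
      ((Module.Basis.is_basis_iff_det b').1 ⟨(b.reindex σ).linearIndependent, (b.reindex σ).span_eq⟩), fun y => ?_⟩
  letI := stalkAct F y.1
  haveI := stalkAct_tower F y.1
  haveI := hF.1
  haveI := finite_stalk_of_isFT hF.2 y.1
  haveI : Ring.KrullDimLE 1 (X.presheaf.stalk y.1) := krullDimLE_of_coheight_le y.2.le
  show val X.functionField (tau F y.1) b - val X.functionField (tau F y.1) b' = _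
  rw [val_change (isGenFibre_tau hF y.1) b' σ, RefOne.scheme_ord_eq y.2, sub_sub_cancel]

theorem clsOf_add {S : ShortComplex X.Modules} (hS : S.ShortExact) (h₁ : Coh.IsCoh S.X₁) (h₂ : Coh.IsCoh S.X₂)
    (h₃ : Coh.IsCoh S.X₃) {ι₁ ι₂ ι₃ : Type u} [Fintype ι₁] [DecidableEq ι₁] [Fintype ι₂] [DecidableEq ι₂]
    [Fintype ι₃] [DecidableEq ι₃] (b₁ : Module.Basis ι₁ X.functionField (Gen S.X₁))
    (b₂ : Module.Basis ι₂ X.functionField (Gen S.X₂)) (b₃ : Module.Basis ι₃ X.functionField (Gen S.X₃)) :
    clsOf S.X₂ b₂ = clsOf S.X₁ b₁ + clsOf S.X₃ b₃ := by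
  let η := genericPoint X
  let I : Gen S.X₁ →ₗ[X.functionField] Gen S.X₂ := stalkLin S.f η
  let Q : Gen S.X₂ →ₗ[X.functionField] Gen S.X₃ := stalkLin S.g η
  have hex : Function.Exact I Q := DevLib.stalk_exact hS η
  obtain ⟨σ, hσ⟩ := Q.exists_rightInverse_of_surjective (LinearMap.range_eq_top.2 (DevLib.stalk_surjective hS η))
  have hσ' : ∀ w, Q (σ w) = w := fun w => LinearMap.congr_fun hσ w
  have hQI : ∀ v, Q (I v) = 0 := fun v => hex.apply_apply_eq_zero v
  have hbij : Function.Bijective (I.coprod σ) := by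
    refine ⟨(injective_iff_map_eq_zero _).2 fun ⟨v, w⟩ h => ?_, fun z => ?_⟩
    · rw [LinearMap.coprod_apply] at h
      have hw : w = 0 := by simpa [hQI, hσ'] using congrArg Q h
      subst hw
      rw [map_zero, add_zero] at h
      have hv : v = 0 := DevLib.stalk_injective hS η (h.trans (map_zero I).symm)
      rw [hv]
      rfl
    · obtain ⟨v, hv⟩ := (hex (z - σ (Q z))).1 (by rw [map_sub, hσ', sub_self])
      exact ⟨(v, Q z), by rw [LinearMap.coprod_apply, hv, sub_add_cancel]⟩
  let bb := (b₁.prod b₃).map (LinearEquiv.ofBijective _ hbij)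
  rw [clsOf_eq h₂ b₂ bb, clsOf, clsOf, clsOf, ← QuotientAddGroup.mk_add]
  refine congrArg _ (funext fun y => ?_)
  letI := stalkAct S.X₁ y.1
  letI := stalkAct S.X₂ y.1
  letI := stalkAct S.X₃ y.1
  haveI := stalkAct_tower S.X₁ y.1
  haveI := stalkAct_tower S.X₂ y.1
  haveI := stalkAct_tower S.X₃ y.1
  haveI := h₁.1
  haveI := h₂.1
  haveI := h₃.1
  haveI := finite_stalk_of_isFT h₁.2 y.1
  haveI := finite_stalk_of_isFT h₂.2 y.1
  haveI := finite_stalk_of_isFT h₃.2 y.1
  haveI : Ring.KrullDimLE 1 (X.presheaf.stalk y.1) := krullDimLE_of_coheight_le y.2.le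
  show val X.functionField (tau S.X₂ y.1) bb =
    val X.functionField (tau S.X₁ y.1) b₁ + val X.functionField (tau S.X₃ y.1) b₃
  exact val_add (isGenFibre_tau h₁ y.1) (isGenFibre_tau h₂ y.1) (isGenFibre_tau h₃ y.1)
    (stalkLin S.f y.1) (stalkLin S.g y.1) (DevLib.stalk_injective hS y.1) (DevLib.stalk_surjective hS y.1)
    (DevLib.stalk_exact hS y.1) I Q hQI (fun m => (RefOne.stalkLin_toGen S.f y.1 m).symm)
    (fun m => (RefOne.stalkLin_toGen S.g y.1 m).symm) (fun j => by simp [bb]) (fun j => by simp [bb, hσ'])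

open Classical in
/-- The class of a module. -/
def clsMod (F : {F : X.Modules // Coh.IsCoh F}) : Cl X :=
  haveI := finite_gen F.2
  clsOf F.1 (Module.finBasis X.functionField (Gen F.1) |>.reindex Equiv.ulift.symm)

theorem clsMod_eq (F : {F : X.Modules // Coh.IsCoh F}) {ι : Type u} [Fintype ι] [DecidableEq ι]
    (b : Module.Basis ι X.functionField (Gen F.1)) : clsMod F = clsOf F.1 b := by
  classical
  haveI := finite_gen F.2
  exact clsOf_eq F.2 _ b

theorem clsMod_rel (S : ShortComplex X.Modules) (h₁ : Coh.IsCoh S.X₁) (h₂ : Coh.IsCoh S.X₂) (h₃ : Coh.IsCoh S.X₃)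
    (hS : S.ShortExact) : clsMod ⟨S.X₂, h₂⟩ = clsMod ⟨S.X₁, h₁⟩ + clsMod ⟨S.X₃, h₃⟩ := by
  classical
  haveI := finite_gen h₁
  haveI := finite_gen h₂
  haveI := finite_gen h₃
  exact clsOf_add hS h₁ h₂ h₃ _ _ _

/-- The divisor class homomorphism. -/
def c1K : K0LocLib.K X →+ Cl X :=
  QuotientAddGroup.lift _ (FreeAbelianGroup.lift clsMod) (by
    rw [KZero.relSub, AddSubgroup.closure_le]
    rintro _ ⟨S, h₁, h₂, h₃, hS, rfl⟩
    simp only [SetLike.mem_coe, AddMonoidHom.mem_ker, map_sub, FreeAbelianGroup.lift_apply_of]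
    rw [clsMod_rel S h₁ h₂ h₃ hS, sub_sub, sub_self])

theorem c1K_cl {F : X.Modules} (hF : Coh.IsCoh F) : c1K (K0LocLib.cl F) = clsMod ⟨F, hF⟩ := by
  rw [K0LocLib.cl, KZero.clSub, dif_pos hF]
  exact FreeAbelianGroup.lift_apply_of _ _

/-- On torsion modules the class is given by lengths. -/
theorem c1K_torsion {F : X.Modules} (hF : Coh.IsCoh F) (h : genericPoint X ∉ CohB1.support F) :
    c1K (K0LocLib.cl F) = QuotientAddGroup.mk
      fun y : Pt1 X => ((Module.length (X.presheaf.stalk y.1) (F.presheaf.stalk y.1)).toNat : ℤ) := by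
  classical
  haveI : Subsingleton (Gen F) := DevLib.subsingleton_of_notMem h
  rw [c1K_cl hF, clsMod_eq ⟨F, hF⟩ (Module.Basis.empty (ι := PEmpty.{u + 1}) (Gen F)), clsOf]
  refine congrArg _ (funext fun y => ?_)
  letI := stalkAct F y.1
  haveI := stalkAct_tower F y.1
  haveI := hF.1
  haveI := finite_stalk_of_isFT hF.2 y.1
  haveI : Ring.KrullDimLE 1 (X.presheaf.stalk y.1) := krullDimLE_of_coheight_le y.2.le
  exact val_eq_length (isGenFibre_tau hF y.1)

end Groth.Agent.DivClassKLib
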