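import Groth.Agent.DivClassKLib.Class
import Groth.Agent.RefOne.Class
import Groth.Agent.RefOne.Power
import Groth.Agent.SeesawVB.Frames
import Groth.Agent.DegDevLib.Wedge
import Groth.Agent.ExtPowLib.Exist
import Groth.Agent.ElemTrLib.Main
import Groth.Agent.ExtPowLib.Unique
import Groth.Prelude.Def_ExtPow2
import Groth.Prelude.Def_TorSh

/-!
# The divisor class of a torsion-free sheaf is that of its determinant
-/

set_option autoImplicit false
set_option backward.isDefEq.respectTransparency false
set_option backward.isDefEq.respectTransparency.types false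
set_option linter.style.haveILetI false
set_option linter.unusedSectionVars false
universe u
open CategoryTheory CategoryTheory.Limits AlgebraicGeometry TopologicalSpace
open Groth.Agent.PullbackMod Groth.Agent.DegDevLib

noncomputable section

namespace Groth.Agent.DivClassKLib

variable {X : Scheme.{u}} [IsIntegral X] [IsLocallyNoetherian X]

/-- A free stalk gives an affine frame. -/
theorem exists_affine_frame {F : X.Modules} (hF : Coh.IsCoh F) {n : ℕ} {x : X} (h : FreeAt n F x) :
    ∃ (U : X.affineOpens) (s : Fin n → Γ(F, U.1)), x ∈ U.1 ∧ IsFrame U.1 s := by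
  haveI := hF.1
  obtain ⟨U, hxU, ⟨e⟩⟩ := exists_nhd_freeAt F (QCohLib.isFP_of_isCoh F hF) h
  let σ : Fin n → Γ(F.restrict U.ι, (⊤ : (U : Scheme.{u}).Opens)) := fun i =>
    (Sigma.ι (fun _ : Fin n => Coh.structureModule (U : Scheme.{u})) i ≫ e.inv).app ⊤ (1 : Γ(U, ⊤))
  have hσ : IsFrame (E := F.restrict U.ι) (⊤ : (U : Scheme.{u}).Opens) σ := fun y hy => by
    have hgerm : ∀ i, (F.restrict U.ι).presheaf.germ ⊤ y hy (σ i) =
        stalkLin e.inv y (stdGerm (X := (U : Scheme.{u})) n y i) := fun i => by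
      rw [stdGerm, ← LinearMap.comp_apply, ← stalkLin_comp, ← AmpleLib.secHom_sec (_ ≫ e.inv)]
      exact (CurveLib.stalkLin_secHom _ _).symm
    have h : ⇑(Fintype.linearCombination ((U : Scheme.{u}).presheaf.stalk y)
        fun i => (F.restrict U.ι).presheaf.germ ⊤ y hy (σ i)) = ⇑(stalkLin e.inv y) ∘
        ⇑(Fintype.linearCombination ((U : Scheme.{u}).presheaf.stalk y) (stdGerm (X := (U : Scheme.{u})) n y)) := by
      funext r
      simp only [Function.comp_apply, Fintype.linearCombination_apply, map_sum, map_smul, hgerm]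
    rw [h]
    exact ((isIso_iff_stalk e.inv).1 inferInstance y).comp (stdGerm_bijective n y)
  obtain ⟨W, hW, hxW, hWU⟩ := exists_isAffineOpen_mem_and_subset (x := x) (U := U.ι ''ᵁ ⊤) ⟨⟨x, hxU⟩, trivial, rfl⟩
  exact ⟨⟨W, hW⟩, _, hxW, (SeesawVB.isFrame_of_restrict U.ι σ hσ).res hWU⟩

/-- The basis of a stalk given by a frame. -/
def frameStalk {F : X.Modules} {n : ℕ} {U : X.Opens} {s : Fin n → Γ(F, U)} (hs : IsFrame U s) {x : X} (hx : x ∈ U) :
    Module.Basis (ULift.{u} (Fin n)) (X.presheaf.stalk x) (F.presheaf.stalk x) :=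
  (Module.Basis.ofEquivFun (LinearEquiv.ofBijective _ (hs x hx)).symm).reindex Equiv.ulift.symm

theorem frameStalk_apply {F : X.Modules} {n : ℕ} {U : X.Opens} {s : Fin n → Γ(F, U)} (hs : IsFrame U s) {x : X}
    (hx : x ∈ U) (i : ULift.{u} (Fin n)) : frameStalk hs hx i = F.presheaf.germ U x hx (s i.down) := by
  classical
  simp [frameStalk, Fintype.linearCombination_apply_single]

/-- The basis of the generic stalk given by a frame. -/
def genBasis {F : X.Modules} {n : ℕ} {U : X.Opens} {s : Fin n → Γ(F, U)} (hs : IsFrame U s)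
    (hη : genericPoint X ∈ U) : Module.Basis (ULift.{u} (Fin n)) X.functionField (Gen F) :=
  frameStalk hs hη

open Classical in
/-- The value at `y` computed by a frame there. -/
theorem valAt_frame {F : X.Modules} (hF : Coh.IsCoh F) {n : ℕ} {y : X} (hy : Order.coheight y = 1)
    {U : X.Opens} {s : Fin n → Γ(F, U)} (hs : IsFrame U s) (hyU : y ∈ U)
    (b : Module.Basis (ULift.{u} (Fin n)) X.functionField (Gen F)) (d : X.functionField) (hd : d ≠ 0)
    (hdet : b.det (fun i => (F.presheaf.germ U (genericPoint X) ((RefOne.spec_gen y).mem_open U.2 hyU) (s i.down) :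
      Gen F)) = d) :
    valAt F y b = - Scheme.ord d y := by
  letI := stalkAct F y
  haveI := stalkAct_tower F y
  haveI := hF.1
  haveI := finite_stalk_of_isFT hF.2 y
  haveI : Ring.KrullDimLE 1 (X.presheaf.stalk y) := krullDimLE_of_coheight_le hy.le
  have e : (tau F y) ∘ (frameStalk hs hyU) = fun i : ULift.{u} (Fin n) =>
      (F.presheaf.germ U (genericPoint X) ((RefOne.spec_gen y).mem_open U.2 hyU) (s i.down) : Gen F) := funext fun i => by
    rw [Function.comp_apply, frameStalk_apply]
    exact RefOne.toGen_germ F y hyU (s i.down)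
  have hg : Good X.functionField (tau F y) b (frameStalk hs hyU) := by
    rw [Good, e, hdet]
    exact hd
  show val X.functionField (tau F y) b = _
  rw [val_eq (isGenFibre_tau hF y) hg, valOf, e, hdet, RefOne.scheme_ord_eq hy]
  have h0 : Module.length (X.presheaf.stalk y)
      (F.presheaf.stalk y ⧸ Submodule.span (X.presheaf.stalk y) (Set.range (frameStalk hs hyU))) = 0 :=
    haveI := Submodule.Quotient.subsingleton_iff.2 (frameStalk hs hyU).span_eq
    Module.length_eq_zero
  rw [h0]
  simp

open Classical in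
theorem c1K_structureModule : c1K (K0LocLib.cl (Coh.structureModule X)) = 0 := by
  have hO := DevLib.isCoh_structureModule X
  have hs : IsFrame (E := Coh.structureModule X) (⊤ : X.Opens) (fun _ : Fin 1 => (1 : Γ(X, ⊤))) := fun y hy => by
    have h : ⇑(Fintype.linearCombination (X.presheaf.stalk y)
        fun _ : Fin 1 => (Coh.structureModule X).presheaf.germ ⊤ y hy (1 : Γ(X, ⊤))) =
        (fun r : X.presheaf.stalk y => r • ParaFLib.oneG y) ∘ (Equiv.funUnique (Fin 1) (X.presheaf.stalk y)) := by
      funext r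
      rw [Fintype.linearCombination_apply, Fin.sum_univ_one]
      rfl
    rw [h]
    exact (ParaFLib.bijective_oneG y).comp (Equiv.bijective _)
  rw [c1K_cl hO, clsMod_eq ⟨_, hO⟩ (genBasis hs trivial), clsOf, QuotientAddGroup.eq_zero_iff]
  refine (congrArg (· ∈ Prin X) ?_).mpr (zero_mem _)
  funext y
  rw [valAt_frame hO y.2 hs trivial (genBasis hs trivial) 1 one_ne_zero, RefOne.scheme_ord_one, neg_zero]
  · rfl
  · refine (congrArg _ (funext fun i => ?_)).trans (genBasis hs trivial).det_self
    exact (frameStalk_apply hs (x := genericPoint X) trivial i).symm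

theorem freeAt_gen {F : X.Modules} (hF : Coh.IsCoh F) :
    FreeAt (Module.finrank X.functionField (Gen F)) F (genericPoint X) :=
  haveI := finite_gen hF
  ⟨(Module.finBasis X.functionField (Gen F)).equivFun⟩

theorem freeAt_codim_one (hX : Pi1.IsNormalScheme X) {F : X.Modules} (hF : Coh.IsCoh F)
    (htf : TorSh.IsTorsionFree F) {y : X} (hy : Order.coheight y = 1) :
    FreeAt (Module.finrank X.functionField (Gen F)) F y := by
  haveI := hF.1
  haveI := RefOne.isDVR hX hy
  haveI := htf y
  haveI := finite_stalk_of_isFT hF.2 y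
  haveI : Module.Free (X.presheaf.stalk y) (F.presheaf.stalk y) := Module.free_of_finite_type_torsion_free'
  have hm : FreeAt (Module.finrank (X.presheaf.stalk y) (F.presheaf.stalk y)) F y :=
    ⟨(Module.finBasis (X.presheaf.stalk y) (F.presheaf.stalk y)).equivFun⟩
  obtain ⟨U, s, hyU, hs⟩ := exists_affine_frame hF hm
  have h := SeesawVB.freeAt_of_frame hs ((RefOne.spec_gen y).mem_open U.1.2 hyU)
  rwa [← freeAt_unique F h (freeAt_gen hF)]

open Classical in
/-- The class of a torsion-free sheaf equals the class of the reflexive hull of its top exterior power. -/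
theorem c1K_det (hX : Pi1.IsNormalScheme X) {F : X.Modules} (hF : Coh.IsCoh F) (htf : TorSh.IsTorsionFree F)
    {r : ℕ} (hr : Module.finrank X.functionField (Gen F) = r) {W : X.Modules} (hW : ExtPow.IsExtPow r F W)
    (hWc : Coh.IsCoh (RefHull.ddual W)) :
    c1K (K0LocLib.cl F) = c1K (K0LocLib.cl (RefHull.ddual W)) ∧
      Module.finrank X.functionField (Gen (RefHull.ddual W)) = 1 := by
  haveI := hF.1
  obtain ⟨φ, hφ⟩ := id hW
  have hc : Compat φ := fun U V h e => hφ U V h e
  have hWcoh : Coh.IsCoh W := ElemTrLib.isCoh_extPow hF hW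
  haveI := hWcoh.1
  let η := genericPoint X
  obtain ⟨U₀, b₀, hη, hb₀⟩ := exists_affine_frame hF (hr ▸ freeAt_gen hF)
  let w₀ := wsec φ U₀ b₀
  have hgw₀ := (gen_wsec φ hc hb₀).bijective_germ η hη
  let e₀ : Gen (RefHull.ddual W) := stalkLin (RefHull.bidualMap W) η (W.presheaf.germ U₀.1 η hη w₀)
  have hβ : Function.Bijective (stalkLin (RefHull.bidualMap W) η) := RefOne.bijective_bidual_of_bijective hWcoh hgw₀
  have he₀ : Function.Bijective fun a : X.functionField => a • e₀ := by
    have h : (fun a : X.functionField => a • e₀) = stalkLin (RefHull.bidualMap W) η ∘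
        fun a : X.presheaf.stalk η => a • W.presheaf.germ U₀.1 η hη w₀ := funext fun a =>
      ((stalkLin (RefHull.bidualMap W) η).map_smul a _).symm
    rw [h]
    exact hβ.comp hgw₀
  let B₁ : Module.Basis (ULift.{u} (Fin 1)) X.functionField (Gen (RefHull.ddual W)) :=
    ((Module.Basis.singleton (Fin 1) X.functionField).map
      (LinearEquiv.ofBijective (LinearMap.toSpanSingleton X.functionField _ e₀) he₀)).reindex Equiv.ulift.symm
  have hB₁ : ∀ i, B₁ i = e₀ := fun i => by simp [B₁]
  refine ⟨?_, by rw [Module.finrank_eq_card_basis B₁]; simp⟩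
  rw [c1K_cl hF, c1K_cl hWc, clsMod_eq ⟨F, hF⟩ (genBasis hb₀ hη), clsMod_eq ⟨_, hWc⟩ B₁, clsOf, clsOf]
  refine congrArg _ (funext fun y => ?_)
  obtain ⟨U, s, hyU, hs⟩ := exists_affine_frame hF (hr ▸ freeAt_codim_one hX hF htf y.2)
  have hηU : η ∈ U.1 := (RefOne.spec_gen y.1).mem_open U.1.2 hyU
  obtain ⟨V, hV, hηV, hVsub⟩ := exists_isAffineOpen_mem_and_subset (x := η) (U := U.1 ⊓ U₀.1) ⟨hηU, hη⟩
  have hVU : V ≤ U.1 := le_trans hVsub inf_le_left
  have hVU₀ : V ≤ U₀.1 := le_trans hVsub inf_le_right
  have hbV := hb₀.res hVU₀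
  choose A hA using fun i => hbV.bijective.2 (F.presheaf.map (homOfLE hVU).op (s i))
  simp only [Fintype.linearCombination_apply] at hA
  let D : Γ(X, V) := (Matrix.of A).det
  let d : X.functionField := X.presheaf.germ V η hηV D
  have hgs : ∀ i : Fin r, (F.presheaf.germ U.1 η hηU (s i) : Gen F) =
      ∑ j, (show X.functionField from X.presheaf.germ V η hηV (A i j)) • (genBasis hb₀ hη ⟨j⟩) := fun i => by
    rw [← TopCat.Presheaf.germ_res_apply F.presheaf (homOfLE hVU) η hηV (s i), ← hA i, map_sum]
    refine Finset.sum_congr rfl fun j _ => ?_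
    rw [show genBasis hb₀ hη ⟨j⟩ = F.presheaf.germ U₀.1 η hη (b₀ j) from frameStalk_apply hb₀ hη ⟨j⟩,
      ← TopCat.Presheaf.germ_res_apply F.presheaf (homOfLE hVU₀) η hηV (b₀ j)]
    exact PresheafOfModules.germ_smul (R := X.presheaf) F.val η V hηV (A i j) _
  have hwU : W.presheaf.germ U.1 η hηU (wsec φ U s) = X.presheaf.germ V η hηV D • W.presheaf.germ U₀.1 η hη w₀ := by
    rw [← TopCat.Presheaf.germ_res_apply W.presheaf (homOfLE hVU) η hηV, hc U ⟨V, hV⟩ hVU,
      ← TopCat.Presheaf.germ_res_apply W.presheaf (homOfLE hVU₀) η hηV w₀, hc U₀ ⟨V, hV⟩ hVU₀,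
      show (fun i => F.presheaf.map (homOfLE hVU).op (s i)) =
        fun i => ∑ j, (Matrix.of A) i j • F.presheaf.map (homOfLE hVU₀).op (b₀ j) from funext fun i => (hA i).symm,
      wsec_smul φ (V := ⟨V, hV⟩) hbV (Matrix.of A)]
    exact PresheafOfModules.germ_smul (R := X.presheaf) W.val η V hηV D _
  have hgwU := (gen_wsec φ hc hs).bijective_germ y.1 hyU
  have hd : d ≠ 0 := fun h0 => by
    have h1 := ((gen_wsec φ hc hs).bijective_germ η hηU).1 (a₁ := 1) (a₂ := 0) ?_
    · exact one_ne_zero h1
    · dsimp only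
      rw [one_smul, zero_smul, hwU, show X.presheaf.germ V η hηV D = 0 from h0, zero_smul]
  have hdet : (genBasis hb₀ hη).det (fun i => (F.presheaf.germ U.1 η hηU (s i.down) : Gen F)) = d := by
    rw [Module.Basis.det_apply]
    have hm : (genBasis hb₀ hη).toMatrix (fun i => (F.presheaf.germ U.1 η hηU (s i.down) : Gen F)) =
        (((Matrix.of A).map (X.presheaf.germ V η hηV).hom).transpose).submatrix Equiv.ulift Equiv.ulift := by
      ext j i
      rw [Module.Basis.toMatrix_apply, hgs, map_sum, Finsupp.finsetSum_apply, Finset.sum_eq_single j.down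
        (fun k _ hk => by
          rw [map_smul, Module.Basis.repr_self, Finsupp.smul_apply,
            Finsupp.single_eq_of_ne (fun h => hk (congrArg ULift.down h).symm), smul_zero])
        (fun h => (h (Finset.mem_univ _)).elim)]
      rw [map_smul, Module.Basis.repr_self, Finsupp.smul_apply, show (⟨j.down⟩ : ULift.{u} (Fin r)) = j from rfl,
        Finsupp.single_eq_same, smul_eq_mul, mul_one]
      rfl
    rw [hm, Matrix.det_submatrix_equiv_self, Matrix.det_transpose, ← RingHom.mapMatrix_apply, ← RingHom.map_det]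
  rw [valAt_frame hF y.2 hs hyU (genBasis hb₀ hη) d hd hdet]
  let ω : Fin 1 → Γ(RefHull.ddual W, U.1) := fun _ => (RefHull.bidualMap W).app U.1 (wsec φ U s)
  have hω : ∀ (z : X) (hz : z ∈ U.1), Function.Bijective (Fintype.linearCombination (X.presheaf.stalk z)
      fun i => (RefHull.ddual W).presheaf.germ U.1 z hz (ω i)) := fun z hz => by
    have hb := (gen_wsec φ hc hs).bijective_germ z hz
    have h : ⇑(Fintype.linearCombination (X.presheaf.stalk z) fun i => (RefHull.ddual W).presheaf.germ U.1 z hz (ω i)) =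
        stalkLin (RefHull.bidualMap W) z ∘ (fun a : X.presheaf.stalk z => a • W.presheaf.germ U.1 z hz (wsec φ U s)) ∘
          (Equiv.funUnique (Fin 1) (X.presheaf.stalk z)) := by
      funext a
      rw [Fintype.linearCombination_apply, Fin.sum_univ_one, Function.comp_apply, Function.comp_apply, map_smul,
        stalkLin_germ]
      rfl
    rw [h]
    exact (RefOne.bijective_bidual_of_bijective hWcoh hb).comp (hb.comp (Equiv.bijective _))
  rw [valAt_frame hWc y.2 (U := U.1) (s := ω) hω hyU B₁ d hd]
  have hval : ((RefHull.ddual W).presheaf.germ U.1 η hηU (ω 0) : Gen (RefHull.ddual W)) = d • e₀ := by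
    show (RefHull.ddual W).presheaf.germ U.1 η hηU ((RefHull.bidualMap W).app U.1 (wsec φ U s)) = _
    rw [← stalkLin_germ, hwU, map_smul]
  rw [Module.Basis.det_apply, Matrix.det_eq_elem_of_subsingleton _ (⟨0⟩ : ULift.{u} (Fin 1)), Module.Basis.toMatrix_apply,
    hval, ← hB₁ ⟨0⟩, map_smul, B₁.repr_self, Finsupp.smul_apply, Finsupp.single_eq_same, smul_eq_mul, mul_one]

end Groth.Agent.DivClassKLib
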