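import Groth.Agent.DivClassKLib.Class
import Groth.Agent.RefOne.Power

/-!
# Torsion sheaves modulo coniveau two, and principal divisors
-/

set_option autoImplicit false
set_option backward.isDefEq.respectTransparency false
set_option backward.isDefEq.respectTransparency.types false
set_option linter.style.haveILetI false
set_option linter.unusedSectionVars false
universe u
open CategoryTheory CategoryTheory.Limits AlgebraicGeometry TopologicalSpace
open Groth.Agent.PullbackMod

noncomputable section

namespace Groth.Agent.DivClassKLib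

variable {X : Scheme.{u}} [IsNoetherian X] [IsIntegral X]

theorem dim_eq_one_iff (y : X) : ringKrullDim (X.presheaf.stalk y) = 1 ↔ Order.coheight y = 1 := by
  rw [ringKrullDim_stalk_eq_coheight]
  exact ⟨fun h => by exact_mod_cast h, fun h => by rw [h]; rfl⟩

theorem coheight_gen : Order.coheight (genericPoint X) = 0 :=
  Order.coheight_eq_zero.2 fun z _ => (show z ≤ genericPoint X from RefOne.spec_gen z)

theorem two_le_of_ne {y : X} (h0 : y ≠ genericPoint X) (h1 : Order.coheight y ≠ 1) :
    (2 : WithBot ℕ∞) ≤ ringKrullDim (X.presheaf.stalk y) := by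
  rw [ringKrullDim_stalk_eq_coheight]
  have h : Order.coheight y ≠ 0 := fun hy => by
    have hm : IsMax y := Order.coheight_eq_zero.1 hy
    exact h0 (((RefOne.spec_gen y).antisymm (hm (show y ≤ genericPoint X from RefOne.spec_gen y))).eq.symm)
  have h2 : (2 : ℕ∞) ≤ Order.coheight y := by
    have := ENat.one_le_iff_ne_zero.2 h
    have h1' : (1 : ℕ∞) < Order.coheight y := lt_of_le_of_ne this (Ne.symm h1)
    exact Order.add_one_le_of_lt h1'
  exact WithBot.coe_le_coe.2 h2

/-- A finite set containing the codimension-one points of a closed set missing the generic point. -/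
theorem finite_codim_one (T : Set X) (hT : IsClosed T) (hg : genericPoint X ∉ T) :
    {y : X | Order.coheight y = 1 ∧ y ∈ T}.Finite := by
  haveI : CompactSpace X := inferInstance
  let U : X.Opens := ⟨Tᶜ, hT.isOpen_compl⟩
  have hc : ∀ y : X, ∃ V : X.Opens, IsAffineOpen V ∧ y ∈ V := fun y => by
    obtain ⟨V, hV, hy, -⟩ := exists_isAffineOpen_mem_and_subset (x := y) (U := (⊤ : X.Opens)) trivial
    exact ⟨V, hV, hy⟩
  choose V hV hyV using hc
  obtain ⟨s, hs⟩ := isCompact_univ.elim_finite_subcover (fun y => ((V y : X.Opens) : Set X)) (fun y => (V y).2)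
    (fun y _ => Set.mem_iUnion.2 ⟨y, hyV y⟩)
  refine (s.finite_toSet.biUnion fun z _ => RefOne.finite_codim_one_compl U hg (hV z)).subset ?_
  rintro y ⟨hy, hyT⟩
  obtain ⟨z, hz, hyz⟩ := Set.mem_iUnion₂.1 (hs (Set.mem_univ y))
  exact Set.mem_iUnion₂.2 ⟨z, hz, hy, hyz, fun h => h hyT⟩

/-- Coniveau two. -/
abbrev H2 (X : Scheme.{u}) : AddSubgroup (K0LocLib.K X) :=
  AddSubgroup.closure {c : SGA6.Kcoh X | ∃ F : X.Modules, Coh.IsCoh F ∧
    (∀ x ∈ CohB1.support F, (2 : WithBot ℕ∞) ≤ ringKrullDim (X.presheaf.stalk x)) ∧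
    c = KZero.clSub (fun M : X.Modules => Coh.IsCoh M) F}

/-- Lengths at a point. -/
abbrev len (F : X.Modules) (y : X) : ℤ :=
  ((Module.length (X.presheaf.stalk y) (F.presheaf.stalk y)).toNat : ℤ)

/-- The class of the closure of a point. -/
abbrev O (y : X) : K0LocLib.K X := K0LocLib.cl (Cyc.closureStructureSheaf y)

theorem length_ne_top {F : X.Modules} (hF : Coh.IsCoh F) (hg : genericPoint X ∉ CohB1.support F) {y : X}
    (hy : Order.coheight y = 1) : Module.length (X.presheaf.stalk y) (F.presheaf.stalk y) ≠ ⊤ := by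
  classical
  haveI : Subsingleton (Gen F) := DevLib.subsingleton_of_notMem hg
  letI := stalkAct F y
  haveI := stalkAct_tower F y
  haveI := hF.1
  haveI := finite_stalk_of_isFT hF.2 y
  haveI : Ring.KrullDimLE 1 (X.presheaf.stalk y) := krullDimLE_of_coheight_le hy.le
  let b : Module.Basis PEmpty.{u + 1} X.functionField (Gen F) := Module.Basis.empty (Gen F)
  have hs : Good X.functionField (tau F y) b (fun i => isEmptyElim i) := by
    rw [Good, Module.Basis.det_apply, Matrix.det_isEmpty]
    exact one_ne_zero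
  have h := hs.length_ne_top (isGenFibre_tau hF y)
  rwa [show Submodule.span (X.presheaf.stalk y) (Set.range fun i : PEmpty.{u + 1} => (isEmptyElim i : F.presheaf.stalk y)) = ⊥
    by rw [Set.range_eq_empty, Submodule.span_empty], (Submodule.quotEquivOfEqBot _ rfl).length_eq] at h

open Classical in
theorem len_closure (z y : X) (hz : Order.coheight z = 1) (hy : Order.coheight y = 1) :
    len (Cyc.closureStructureSheaf z) y = if z = y then 1 else 0 := by
  classical
  have hp := K0Fam.isPiece_closureStructureSheaf z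
  split_ifs with h
  · subst h
    haveI := hp.simple
    simp [len, Module.length_eq_one]
  · haveI : Subsingleton ((Cyc.closureStructureSheaf z).presheaf.stalk y) := not_not.1 fun hne => h (by
      have h1 : z ⤳ y := hp.supp y hne
      by_contra hzy
      have h2 : Order.coheight z + 1 ≤ Order.coheight y :=
        Order.coheight_add_one_le (lt_of_le_not_ge (show y ≤ z from h1) fun h' => hzy (h1.antisymm h').eq)
      rw [hz, hy] at h2
      exact absurd h2 (by decide))
    simp [len, Module.length_eq_zero]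

/-- Torsion sheaves are, modulo coniveau two, sums of their prime divisors. -/
theorem cl_sub_sum_mem {C : X.Modules} (hC : Coh.IsCoh C) (hg : genericPoint X ∉ CohB1.support C) (s : Finset X)
    (hs : ∀ y ∈ s, Order.coheight y = 1) (hcov : ∀ y ∈ CohB1.support C, Order.coheight y = 1 → y ∈ s) :
    K0LocLib.cl C - ∑ y ∈ s, len C y • O y ∈ H2 X := by
  classical
  let T := CohB1.support C
  let P : X.Modules → Prop := fun G => K0LocLib.cl G - ∑ y ∈ s, len G y • O y ∈ H2 X
  have hiso : ∀ M N : X.Modules, Nonempty (M ≅ N) → P M → P N := fun M N ⟨e⟩ hM => by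
    have hl : ∀ y, len M y = len N y := fun y => by
      have hb : Function.Bijective (stalkLin e.hom y) :=
        ⟨(mono_iff_stalk e.hom).1 inferInstance y, (epi_iff_stalk e.hom).1 inferInstance y⟩
      exact congrArg (fun n : ℕ∞ => (n.toNat : ℤ)) (LinearEquiv.ofBijective _ hb).length_eq
    have hc : K0LocLib.cl M = K0LocLib.cl N := by
      by_cases hM : Coh.IsCoh M
      · exact (K0LocLib.cl_iso e hM).symm
      · rw [K0LocLib.cl, KZero.clSub, dif_neg hM, K0LocLib.cl, KZero.clSub,
          dif_neg fun hN => hM (DCohLib.isCoh_iso e.symm hN)]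
    show _ ∈ _
    rw [← hc]
    simpa only [← hl] using hM
  have hadd : ∀ S : ShortComplex X.Modules, S.ShortExact → Coh.IsCoh S.X₁ → Coh.IsCoh S.X₂ → Coh.IsCoh S.X₃ →
      CohB1.support S.X₂ ⊆ T → K0LocLib.cl S.X₂ - ∑ y ∈ s, len S.X₂ y • O y =
        (K0LocLib.cl S.X₁ - ∑ y ∈ s, len S.X₁ y • O y) + (K0LocLib.cl S.X₃ - ∑ y ∈ s, len S.X₃ y • O y) := by
    intro S hS h₁ h₂ h₃ hT
    have hg₂ : genericPoint X ∉ CohB1.support S.X₂ := fun h => hg (hT h)
    have hg₁ : genericPoint X ∉ CohB1.support S.X₁ := fun h => hg₂ (by rw [DevLib.support_X₂ hS]; exact Or.inl h)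
    have hg₃ : genericPoint X ∉ CohB1.support S.X₃ := fun h => hg₂ (by rw [DevLib.support_X₂ hS]; exact Or.inr h)
    have hl : ∀ y ∈ s, len S.X₂ y • O y = len S.X₁ y • O y + len S.X₃ y • O y := fun y hy => by
      have e := Module.length_eq_add_of_exact _ _ (DevLib.stalk_injective hS y) (DevLib.stalk_surjective hS y)
        (DevLib.stalk_exact hS y)
      rw [← add_smul, len, len, len, e, ENat.toNat_add (length_ne_top h₁ hg₁ (hs y hy)) (length_ne_top h₃ hg₃ (hs y hy))]
      push_cast
      rfl
    rw [K0LocLib.cl_add hS h₁ h₂ h₃, Finset.sum_congr rfl hl, Finset.sum_add_distrib]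
    abel
  refine DevLib.devissage T P hiso (fun M h => ?_) (fun S hS a b c d p q => ?_) ?_ C hC subset_rfl
  · show _ ∈ _
    have hl : ∀ y, len M y = 0 := fun y => by
      haveI : Subsingleton (M.presheaf.stalk y) := not_not.1 fun hne => hne (subsingleton_of_forall_eq 0 fun t => by
        have e := congrArg (fun φ => stalkLin φ y t) (h.eq_of_src (𝟙 M) 0)
        simpa [stalkLin_id, DevLib.stalkLin_zero] using e)
      simp [len, Module.length_eq_zero]
    rw [K0LocLib.cl_isZero h, Finset.sum_eq_zero fun y _ => by rw [hl, zero_smul], sub_zero]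
    exact zero_mem _
  · show _ ∈ _
    rw [hadd S hS a b c d]
    exact add_mem p q
  intro ξ hξT hξ Q hQ hsm
  by_cases h1 : Order.coheight ξ = 1
  · have hp := K0Fam.isPiece_closureStructureSheaf ξ
    refine DevLib.piece_of_two_three T hξ P hiso (fun S hS a b c d => ?_) hp.coh hp.supp hp.simple ?_ hQ hsm
    · have e := hadd S hS a b c d
      refine ⟨fun p q => ?_, fun p q => ?_, fun p q => ?_⟩
      · show _ ∈ _
        rw [eq_sub_of_add_eq' e.symm]
        exact sub_mem q p
      · show _ ∈ _
        rw [e]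
        exact add_mem p q
      · show _ ∈ _
        rw [eq_sub_of_add_eq e.symm]
        exact sub_mem p q
    · show _ ∈ _
      rw [Finset.sum_eq_single ξ (fun y hy hne => by rw [len_closure ξ y h1 (hs y hy), if_neg hne.symm, zero_smul])
        (fun h => (h (hcov ξ hξT h1)).elim), len_closure ξ ξ h1 h1, if_pos rfl, one_smul, sub_self]
      exact zero_mem _
  · have hξg : ξ ≠ genericPoint X := fun h => hg (h ▸ hξT)
    have hsupp : ∀ y ∈ CohB1.support Q, Order.coheight y ≠ 1 ∧ y ≠ genericPoint X := fun y hy => by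
      refine ⟨fun hy1 => ?_, fun h => hg (hξ (specializes_iff_mem_closure.1 (h ▸ hQ.supp y hy)))⟩
      have h2 := two_le_of_ne hξg h1
      rw [ringKrullDim_stalk_eq_coheight] at h2
      have h3 : (2 : ℕ∞) ≤ Order.coheight ξ := WithBot.coe_le_coe.1 h2
      have h4 : Order.coheight ξ ≤ Order.coheight y := Order.coheight_anti (show y ≤ ξ from hQ.supp y hy)
      rw [hy1] at h4
      exact absurd (h3.trans h4) (by decide)
    have h0 : ∀ y ∈ s, len Q y • O y = 0 := fun y hy => by
      haveI : Subsingleton (Q.presheaf.stalk y) := not_not.1 fun hne => (hsupp y hne).1 (hs y hy)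
      simp [len, Module.length_eq_zero]
    show _ ∈ _
    rw [Finset.sum_eq_zero h0, sub_zero]
    exact AddSubgroup.subset_closure ⟨Q, hQ.coh, fun y hy => two_le_of_ne (hsupp y hy).2 (hsupp y hy).1, rfl⟩

theorem H2_le_ker : H2 X ≤ (c1K (X := X)).ker := by
  refine (AddSubgroup.closure_le _).2 ?_
  rintro _ ⟨F, hF, hs, rfl⟩
  have hg : genericPoint X ∉ CohB1.support F := fun h => by
    have := hs _ h
    rw [ringKrullDim_stalk_eq_coheight, coheight_gen] at this
    exact absurd this (by decide)
  refine AddMonoidHom.mem_ker.2 ((c1K_torsion hF hg).trans ?_)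
  rw [QuotientAddGroup.eq_zero_iff]
  refine (congrArg (· ∈ Prin X) ?_).mpr (zero_mem _)
  funext y
  haveI : Subsingleton (F.presheaf.stalk y.1) := not_not.1 fun h => by
    have := hs _ h
    rw [ringKrullDim_stalk_eq_coheight, y.2] at this
    exact absurd this (by decide)
  simp [Module.length_eq_zero]

theorem c1K_O (z : X) (hz : Order.coheight z = 1) :
    c1K (O z) = QuotientAddGroup.mk (fun y : Pt1 X => len (Cyc.closureStructureSheaf z) y.1) := by
  have hp := K0Fam.isPiece_closureStructureSheaf z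
  refine c1K_torsion hp.coh fun h => ?_
  have h1 : z ⤳ genericPoint X := hp.supp _ h
  rw [(h1.antisymm (RefOne.spec_gen z)).eq, coheight_gen] at hz
  exact zero_ne_one hz

/-- Coefficients of a divisor with trivial class are principal. -/
theorem principal_of_ker (D : X →₀ ℤ) (hD : ∀ x ∈ D.support, Order.coheight x = 1)
    (h : (D.sum fun x n => n • O x) ∈ (c1K (X := X)).ker) :
    ∃ φ : X.functionField, φ ≠ 0 ∧ ∀ y : X, Order.coheight y = 1 → D y = Scheme.ord φ y := by
  classical
  have h0 := AddMonoidHom.mem_ker.1 h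
  rw [Finsupp.sum, map_sum, Finset.sum_congr rfl (fun x hx => by rw [map_zsmul, c1K_O x (hD x hx)]),
    ← Finset.sum_congr rfl (fun x _ => QuotientAddGroup.mk_zsmul (Prin X) _ (D x)), ← QuotientAddGroup.mk_sum,
    QuotientAddGroup.eq_zero_iff] at h0
  obtain ⟨φ, hφ, he⟩ := h0
  refine ⟨φ, hφ, fun y hy => ?_⟩
  rw [← he ⟨y, hy⟩, Finset.sum_apply, Finset.sum_eq_single y (fun x hx hne => by
    rw [Pi.smul_apply, len_closure x y (hD x hx) hy, if_neg hne, smul_zero]) (fun hne => by
    rw [Pi.smul_apply, Finsupp.notMem_support_iff.1 hne, zero_smul])]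
  rw [Pi.smul_apply, len_closure y y hy hy, if_pos rfl, smul_eq_mul, mul_one]

/-- Coefficients of a divisor class in coniveau two are principal. -/
theorem principal_of_mem (D : X →₀ ℤ) (hD : ∀ x ∈ D.support, Order.coheight x = 1)
    (h : (D.sum fun x n => n • O x) ∈ H2 X) :
    ∃ φ : X.functionField, φ ≠ 0 ∧ ∀ y : X, Order.coheight y = 1 → D y = Scheme.ord φ y :=
  principal_of_ker D hD (H2_le_ker h)

/-- The quotient of `O` by a twisted copy of the ideal of an effective divisor. -/
theorem exists_quot (hX : Pi1.IsNormalScheme X) (E : X → ℕ) (hcod : ∀ y, E y ≠ 0 → Order.coheight y = 1)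
    (hE : ∀ W : X.affineOpens, {y : X | y ∈ W.1 ∧ E y ≠ 0}.Finite) (φ : X.functionField) (hφ : φ ≠ 0)
    (hnn : ∀ y : X, Order.coheight y = 1 → 0 ≤ Scheme.ord φ y + E y) :
    ∃ C : X.Modules, Coh.IsCoh C ∧ genericPoint X ∉ CohB1.support C ∧
      (∀ y : X, Order.coheight y = 1 → len C y = Scheme.ord φ y + E y) ∧
      K0LocLib.cl C = K0LocLib.cl (Coh.structureModule X) -
        K0LocLib.cl (ClSub.idealMod (RefOne.ordIdealSheaf E hE)) := by
  let J := RefOne.ordIdealSheaf E hE
  let η := genericPoint X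
  let A := ClSub.idealMod J
  have hA : Coh.IsCoh A := RefOne.isCoh_idealMod J
  have hO := DevLib.isCoh_structureModule X
  have hηE : E η = 0 := by
    by_contra h
    have h1 := hcod η h
    rw [coheight_gen] at h1
    exact zero_ne_one h1
  let ι := stalkLin (ClSub.idealModι J) η
  let T : A.presheaf.stalk η →ₗ[X.presheaf.stalk η] (Coh.structureModule X).presheaf.stalk η :=
    (show X.presheaf.stalk η from φ) • ι
  have hT : ∀ (y : X) (m : A.presheaf.stalk y) (r : X.presheaf.stalk y),
      stalkLin (ClSub.idealModι J) y m = RefOne.oEquiv y r →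
      T (RefOne.toGen A y m) = RefOne.oEquiv η ((show X.presheaf.stalk η from φ) * RefOne.toK y r) := fun y m r hr => by
    show (show X.presheaf.stalk η from φ) • stalkLin (ClSub.idealModι J) η (RefOne.toGen A y m) = _
    rw [RefOne.stalkLin_toGen, hr, RefOne.toGen_oEquiv, ← map_smul, smul_eq_mul]
  have hord : ∀ y : X, Order.coheight y = 1 → ∀ (p : X.presheaf.stalk y), Irreducible p → ∀ (k : ℕ),
      Scheme.ord (show X.functionField from RefOne.toK y (p ^ k)) y = k := fun y hy p hp k => by
    haveI := RefOne.isDVR hX hy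
    rw [RefOne.scheme_ord_toK hy (pow_ne_zero _ hp.ne_zero), Ring.ord_eq_addVal, hp.addVal_pow]
    rfl
  have hgen : ∀ y : X, Order.coheight y = 1 → ∀ (p : X.presheaf.stalk y), Irreducible p →
      IntMult.stalkIdeal J y = Ideal.span {p ^ E y} := fun y hy p hp => by
    haveI := RefOne.isDVR hX hy
    rw [RefOne.stalkIdeal_ordIdealSheaf E hE hcod hy.le, hp.maximalIdeal_eq, Ideal.span_singleton_pow]
  have hb : ∀ y : X, Order.coheight y = 1 → ∀ (p : X.presheaf.stalk y), Irreducible p →
      ∃ b, RefOne.toK y b = (show X.presheaf.stalk η from φ) * RefOne.toK y (p ^ E y) := fun y hy p hp => by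
    refine RefOne.exists_eq_toK hX hy (Or.inr ?_)
    show 0 ≤ Scheme.ord (φ * (show X.functionField from RefOne.toK y (p ^ E y))) y
    rw [Scheme.ord_mul hφ (fun h0 => pow_ne_zero _ hp.ne_zero (RefOne.toK_injective y (h0.trans (map_zero _).symm))),
      hord y hy p hp]
    exact hnn y hy
  obtain ⟨ψ, hψ⟩ := RefOne.exists_hom hX (G := A) hO RefOne.isRef1_structureModule.2.1 T fun y hy m => by
    haveI := RefOne.isDVR hX hy
    obtain ⟨p, hp⟩ := IsDiscreteValuationRing.exists_irreducible (X.presheaf.stalk y)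
    obtain ⟨r, hr⟩ := (RefOne.oEquiv y).surjective (stalkLin (ClSub.idealModι J) y m)
    have hr' := ((RefOne.idealModι_stalk J y).2 r).1 ⟨m, hr.symm⟩
    rw [hgen y hy p hp, Ideal.mem_span_singleton'] at hr'
    obtain ⟨q, rfl⟩ := hr'
    obtain ⟨b, hb⟩ := hb y hy p hp
    refine ⟨RefOne.oEquiv y (q * b), ?_⟩
    rw [hT y m _ hr.symm, RefOne.toGen_oEquiv, map_mul (RefOne.toK y), hb, map_mul (RefOne.toK y)]
    congr 1
    ring
  have hψ' : ∀ (y : X) (m : A.presheaf.stalk y) (r : X.presheaf.stalk y),
      stalkLin (ClSub.idealModι J) y m = RefOne.oEquiv y r → ∀ w, stalkLin ψ y m = RefOne.oEquiv y w →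
      RefOne.toK y w = (show X.presheaf.stalk η from φ) * RefOne.toK y r := fun y m r hr w hw => by
    have h1 := hψ y m
    rw [hw, hT y m r hr, RefOne.toGen_oEquiv] at h1
    exact (RefOne.oEquiv η).injective h1
  haveI : Mono ψ := (mono_iff_stalk ψ).2 fun y => (injective_iff_map_eq_zero _).2 fun m hm => by
    obtain ⟨r, hr⟩ := (RefOne.oEquiv y).surjective (stalkLin (ClSub.idealModι J) y m)
    have h1 := hψ' y m r hr.symm 0 (by rw [hm, map_zero])
    rw [map_zero] at h1
    have h2 : r = 0 := RefOne.toK_injective y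
      (((mul_eq_zero.1 (show φ * (show X.functionField from RefOne.toK y r) = 0 from h1.symm)).resolve_left hφ).trans
        (map_zero _).symm)
    refine (RefOne.idealModι_stalk J y).1 ?_
    rw [← hr, h2, map_zero, map_zero]
  let C := cokernel ψ
  have hC : Coh.IsCoh C := (QCohLib.isCoh_kernel_cokernel ψ hA hO).2
  have hcl := K0LocLib.cl_add (S := DevLib.cokerSeq ψ) (DevLib.cokerSeq_shortExact ψ) hA hO hC
  refine ⟨C, hC, ?_, fun y hy => ?_, eq_sub_of_add_eq' hcl.symm⟩
  · refine DevLib.notMem_support_coker ψ fun v => ?_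
    obtain ⟨w, rfl⟩ := (RefOne.oEquiv η).surjective v
    obtain ⟨e, he⟩ := ((RefOne.idealModι_stalk J η).2 1).2 (by
      rw [RefOne.stalkIdeal_ordIdealSheaf E hE hcod (by rw [coheight_gen]; exact zero_le), hηE, pow_zero, Ideal.one_eq_top]
      trivial)
    obtain ⟨w₀, hw₀⟩ := (RefOne.oEquiv η).surjective (stalkLin ψ η e)
    have h1 := hψ' η e 1 he w₀ hw₀.symm
    rw [map_one, mul_one] at h1
    have hu : IsUnit w₀ := by
      refine ((RefOne.isField_gen (X := X)).mul_inv_cancel fun h0 => hφ ?_).elim fun b hb => IsUnit.of_mul_eq_one b hb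
      rw [h0, map_zero] at h1
      exact h1.symm
    obtain ⟨c, hc⟩ := hu.exists_left_inv
    exact ⟨(w * c) • e, by rw [map_smul, ← hw₀, ← map_smul, smul_eq_mul, mul_assoc, hc, mul_one]⟩
  · haveI := RefOne.isDVR hX hy
    obtain ⟨p, hp⟩ := IsDiscreteValuationRing.exists_irreducible (X.presheaf.stalk y)
    obtain ⟨b, hb⟩ := hb y hy p hp
    let R := X.presheaf.stalk y
    let f : R →ₗ[R] C.presheaf.stalk y := (stalkLin (cokernel.π ψ) y).comp (RefOne.oEquiv y).toLinearMap
    have hf : Function.Surjective f := (DevLib.coker_surjective ψ y).comp (RefOne.oEquiv y).surjective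
    have hker : LinearMap.ker f = Ideal.span {b} := by
      ext r
      rw [LinearMap.mem_ker]
      refine Iff.trans (DevLib.coker_exact ψ y _) ?_
      constructor
      · rintro ⟨m, hm⟩
        obtain ⟨r₀, hr₀⟩ := (RefOne.oEquiv y).surjective (stalkLin (ClSub.idealModι J) y m)
        have h1 := hψ' y m r₀ hr₀.symm r hm
        have h2 := ((RefOne.idealModι_stalk J y).2 r₀).1 ⟨m, hr₀.symm⟩
        rw [hgen y hy p hp, Ideal.mem_span_singleton'] at h2
        obtain ⟨q, rfl⟩ := h2
        refine Ideal.mem_span_singleton'.2 ⟨q, RefOne.toK_injective y ?_⟩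
        rw [h1, map_mul, map_mul, hb]
        ring
      · intro hr
        obtain ⟨q, rfl⟩ := Ideal.mem_span_singleton'.1 hr
        obtain ⟨m, hm⟩ := ((RefOne.idealModι_stalk J y).2 (q * p ^ E y)).2 (by
          rw [hgen y hy p hp]; exact Ideal.mem_span_singleton'.2 ⟨q, rfl⟩)
        refine ⟨m, ?_⟩
        obtain ⟨w, hw⟩ := (RefOne.oEquiv y).surjective (stalkLin ψ y m)
        have h1 := hψ' y m _ hm w hw.symm
        rw [← hw]
        refine congrArg (RefOne.oEquiv y) (RefOne.toK_injective y ?_)
        rw [h1, map_mul, map_mul, hb]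
        ring
    have hb0 : b ≠ 0 := fun h0 => by
      rw [h0, map_zero] at hb
      exact mul_ne_zero hφ (fun h => pow_ne_zero _ hp.ne_zero (RefOne.toK_injective y (h.trans (map_zero _).symm))) hb.symm
    have e := ((Submodule.quotEquivOfEq _ _ hker).symm.trans (f.quotKerEquivOfSurjective hf)).length_eq
    show ((Module.length R (C.presheaf.stalk y)).toNat : ℤ) = _
    rw [← e]
    show ((Ring.ord R b).toNat : ℤ) = _
    rw [← RefOne.scheme_ord_toK hy hb0, hb,
      show Scheme.ord (show X.functionField from (show X.presheaf.stalk η from φ) * RefOne.toK y (p ^ E y)) y =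
        Scheme.ord (φ * (show X.functionField from RefOne.toK y (p ^ E y))) y from rfl,
      Scheme.ord_mul hφ (fun h0 => pow_ne_zero _ hp.ne_zero (RefOne.toK_injective y (h0.trans (map_zero _).symm))),
      hord y hy p hp]

/-- Principal divisors lie in coniveau two. -/
theorem mem_of_principal (hX : Pi1.IsNormalScheme X) (D : X →₀ ℤ) (hD : ∀ x ∈ D.support, Order.coheight x = 1)
    (φ : X.functionField) (hφ : φ ≠ 0) (h : ∀ y : X, Order.coheight y = 1 → D y = Scheme.ord φ y) :
    (D.sum fun x n => n • O x) ∈ H2 X := by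
  classical
  let E : X → ℕ := fun y => (-D y).toNat
  have hsub : ∀ y, E y ≠ 0 → y ∈ D.support := fun y hy => Finsupp.mem_support_iff.2 fun h0 => hy (by simp [E, h0])
  have hE : ∀ W : X.affineOpens, {y : X | y ∈ W.1 ∧ E y ≠ 0}.Finite := fun W =>
    D.support.finite_toSet.subset fun y hy => hsub y hy.2
  have hcod : ∀ y, E y ≠ 0 → Order.coheight y = 1 := fun y hy => hD y (hsub y hy)
  obtain ⟨C, hC, hgC, hlC, hclC⟩ := exists_quot hX E hcod hE φ hφ fun y hy => by
    rw [← h y hy]
    simp only [E]
    omega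
  obtain ⟨C', hC', hgC', hlC', hclC'⟩ := exists_quot hX E hcod hE 1 one_ne_zero fun y hy => by
    rw [RefOne.scheme_ord_one]
    omega
  let s : Finset X := D.support ∪ (finite_codim_one _ (DevLib.isClosed_support hC) hgC).toFinset ∪
    (finite_codim_one _ (DevLib.isClosed_support hC') hgC').toFinset
  have hs : ∀ y ∈ s, Order.coheight y = 1 := fun y hy => by
    simp only [s, Finset.mem_union, Set.Finite.mem_toFinset, Set.mem_ofPred_eq] at hy
    rcases hy with (hy | hy) | hy
    exacts [hD y hy, hy.1, hy.1]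
  have m := cl_sub_sum_mem hC hgC s hs fun y hy hy1 => by
    simp [s, hy, hy1]
  have m' := cl_sub_sum_mem hC' hgC' s hs fun y hy hy1 => by
    simp [s, hy, hy1]
  have hsum : (D.sum fun x n => n • O x) = ∑ y ∈ s, D y • O y :=
    Finset.sum_subset (fun y hy => by simp [s, Finsupp.mem_support_iff.1 hy])
      fun y _ hy => by
        show D y • O y = 0
        rw [Finsupp.notMem_support_iff.1 hy, zero_smul]
  have he : ∀ y ∈ s, len C y • O y = D y • O y + len C' y • O y := fun y hy => by
    rw [← add_smul, hlC y (hs y hy), hlC' y (hs y hy), RefOne.scheme_ord_one, zero_add, h y (hs y hy)]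
  rw [Finset.sum_congr rfl he, Finset.sum_add_distrib, hclC] at m
  rw [hclC'] at m'
  have key := sub_mem m' m
  rw [hsum]
  rwa [show (K0LocLib.cl (Coh.structureModule X) - K0LocLib.cl (ClSub.idealMod (RefOne.ordIdealSheaf E hE)) -
      ∑ y ∈ s, len C' y • O y) - (K0LocLib.cl (Coh.structureModule X) -
      K0LocLib.cl (ClSub.idealMod (RefOne.ordIdealSheaf E hE)) -
      (∑ y ∈ s, D y • O y + ∑ y ∈ s, len C' y • O y)) = ∑ y ∈ s, D y • O y by abel] at key

end Groth.Agent.DivClassKLib
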