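import Groth.Agent.DivClassKLib.Main
import Groth.Agent.DivClassKLib.Det
import Groth.Agent.S15981

/-!
# Coniveau two is the common kernel of the rank and the divisor class
-/

set_option autoImplicit false
set_option backward.isDefEq.respectTransparency false
set_option backward.isDefEq.respectTransparency.types false
set_option linter.style.haveILetI false
set_option linter.unusedSectionVars false
universe u
open CategoryTheory CategoryTheory.Limits AlgebraicGeometry TopologicalSpace
open Groth.Agent.PullbackMod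

noncomputable section

namespace Groth.Agent.DivClassKLib

variable {X : Scheme.{u}} [IsNoetherian X] [IsIntegral X]

/-- The rank of a class, as length at the generic point. -/
theorem exists_rank (hX : Pi1.IsNormalScheme X) : ∃ rk : K0LocLib.K X →+ ℤ,
    (∀ F : X.Modules, Coh.IsCoh F → rk (K0LocLib.cl F) = (Module.finrank X.functionField (Gen F) : ℤ)) ∧
    ∀ z, rk z = 0 → c1K z = 0 → z ∈ H2 X := by
  classical
  obtain ⟨⟨rk, hrk⟩, hker⟩ := S15981.result (X := X)
  have hη : ringKrullDim (X.presheaf.stalk (genericPoint X)) = 0 := by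
    rw [ringKrullDim_stalk_eq_coheight, coheight_gen]; rfl
  have huniq : ∀ x : {x : X // ringKrullDim (X.presheaf.stalk x) = 0}, x = ⟨genericPoint X, hη⟩ := fun x => by
    have h := x.2
    rw [ringKrullDim_stalk_eq_coheight] at h
    have hm : IsMax x.1 := Order.coheight_eq_zero.1 (by exact_mod_cast h)
    exact Subtype.ext (((RefOne.spec_gen x.1).antisymm (hm (show x.1 ≤ genericPoint X from RefOne.spec_gen x.1))).eq.symm)
  refine ⟨(Pi.evalAddMonoidHom _ ⟨genericPoint X, hη⟩).comp rk, fun F hF => ?_, fun z hz hc => ?_⟩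
  · rw [AddMonoidHom.comp_apply, hrk F hF]
    haveI := finite_gen hF
    show ((Module.length (X.presheaf.stalk (genericPoint X)) (Gen F)).toNat : ℤ) = _
    have e : Module.length (X.presheaf.stalk (genericPoint X)) (Gen F) = Module.length X.functionField (Gen F) := rfl
    rw [e, Module.length_eq_finrank]
    rfl
  have hz1 : z ∈ rk.ker := AddMonoidHom.mem_ker.2 (funext fun x => by rw [huniq x]; exact hz)
  rw [(hker rk hrk).2] at hz1
  have hL : ∃ D : X →₀ ℤ, (∀ x ∈ D.support, Order.coheight x = 1) ∧ z - (D.sum fun x n => n • O x) ∈ H2 X := by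
    clear hc hz
    induction hz1 using AddSubgroup.closure_induction with
    | mem c hc =>
      obtain ⟨F, hF, hs, rfl⟩ := hc
      have hg : genericPoint X ∉ CohB1.support F := fun h => by
        have := hs _ h
        rw [hη] at this
        exact absurd this (by decide)
      let s := (finite_codim_one _ (DevLib.isClosed_support hF) hg).toFinset
      have hs1 : ∀ y ∈ s, Order.coheight y = 1 := fun y hy => ((Set.Finite.mem_toFinset _).1 hy).1
      refine ⟨Finsupp.onFinset s (fun y => if y ∈ s then len F y else 0) (fun y hy => by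
        by_contra h
        exact hy (if_neg h)), fun x hx => hs1 x (Finsupp.support_onFinset_subset hx), ?_⟩
      rw [Finsupp.onFinset_sum _ (fun x => zero_smul ℤ (O x)),
        Finset.sum_congr rfl fun y hy => by rw [if_pos hy]]
      exact cl_sub_sum_mem hF hg s hs1 fun y hy hy1 => (Set.Finite.mem_toFinset _).2 ⟨hy1, hy⟩
    | zero => exact ⟨0, by simp, by rw [Finsupp.sum_zero_index, sub_zero]; exact zero_mem _⟩
    | add a b _ _ ha hb =>
      obtain ⟨D, hD, hD'⟩ := ha
      obtain ⟨E, hE, hE'⟩ := hb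
      refine ⟨D + E, fun x hx => ?_, ?_⟩
      · rcases Finset.mem_union.1 (Finsupp.support_add hx) with h | h
        exacts [hD x h, hE x h]
      · rw [Finsupp.sum_add_index' (fun x => zero_smul ℤ (O x)) (fun x m n => add_smul m n (O x))]
        have := add_mem hD' hE'
        rwa [show a + b - ((D.sum fun x n => n • O x) + E.sum fun x n => n • O x) =
          a - (D.sum fun x n => n • O x) + (b - E.sum fun x n => n • O x) by abel]
    | neg a _ ha =>
      obtain ⟨D, hD, hD'⟩ := ha
      refine ⟨-D, fun x hx => hD x (by rwa [Finsupp.support_neg] at hx), ?_⟩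
      rw [Finsupp.sum_neg_index (fun x => zero_smul ℤ (O x))]
      have := neg_mem hD'
      simp only [neg_smul, Finsupp.sum_neg]
      rwa [neg_sub, sub_eq_neg_add, neg_add_eq_sub, ← neg_sub_neg] at this
  obtain ⟨D, hD, hzD⟩ := hL
  have h1 := AddMonoidHom.mem_ker.1 (H2_le_ker hzD)
  rw [map_sub, hc, zero_sub, neg_eq_zero] at h1
  obtain ⟨φ, hφ, he⟩ := principal_of_ker D hD (AddMonoidHom.mem_ker.2 h1)
  have := add_mem hzD (mem_of_principal hX D hD φ hφ he)
  rwa [sub_add_cancel] at this

/-- The dimension is at most two below the top in codimension two. -/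
theorem delta_le {δ : X → ℤ} (hδ : Cyc.IsDimFun X δ) {x : X} (hx : (2 : WithBot ℕ∞) ≤ ringKrullDim (X.presheaf.stalk x)) :
    δ x + 2 ≤ δ (genericPoint X) := by
  rw [ringKrullDim_stalk_eq_coheight] at hx
  have h2 : ((2 : ℕ) : ℕ∞) ≤ Order.coheight x := WithBot.coe_le_coe.1 hx
  obtain ⟨p, hp0, hp⟩ := Order.exists_series_of_le_coheight x h2
  have hlt : ∀ a b : X, a < b → δ a + 1 ≤ δ b := fun a b hab => by
    have := (hδ b a hab.le (fun h => lt_irrefl a (h ▸ hab))).1
    omega
  have h01 := hlt _ _ (p.step ⟨0, by omega⟩)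
  have h12 := hlt _ _ (p.step ⟨1, by omega⟩)
  have hle : ∀ a : X, δ a ≤ δ (genericPoint X) := fun a => by
    by_cases h : genericPoint X = a
    · rw [h]
    · exact (hδ _ a (RefOne.spec_gen a) h).1.le
  have h2' := hle (p.toFun (Fin.succ ⟨1, by omega⟩))
  have e : p.toFun (Fin.castSucc ⟨0, by omega⟩) = x := (congrArg p.toFun (Fin.ext rfl)).trans hp0
  have e1 : p.toFun (Fin.succ ⟨0, by omega⟩) = p.toFun (Fin.castSucc ⟨1, by omega⟩) := rfl
  rw [e, e1] at h01
  linarith

/-- `K₀` of coherent sheaves maps to `K₀` of the top step of the dimension filtration. -/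
theorem exists_toQuot {δ : X → ℤ} (hδ : Cyc.IsDimFun X δ) {n b : ℤ} (hn : δ (genericPoint X) = n) :
    ∃ Ψ : K0LocLib.K X →+ Cyc.K0CohQuot δ n b,
      (∀ F : X.Modules, Coh.IsCoh F → Ψ (K0LocLib.cl F) = Cyc.toK0CohQuot δ n b F) ∧
        (n = b + 2 → H2 X ≤ Ψ.ker) := by
  have hle : ∀ F : X.Modules, Coh.IsCoh F → Cyc.CohLe δ n F := fun F hF => ⟨hF, fun a _ => by
    by_cases h : genericPoint X = a
    · rw [← h, hn]
    · exact hn ▸ (hδ _ a (RefOne.spec_gen a) h).1.le⟩
  let f : FreeAbelianGroup {F : X.Modules // Coh.IsCoh F} →+ Cyc.K0CohQuot δ n b :=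
    FreeAbelianGroup.lift fun F => Cyc.toK0CohQuot δ n b F.1
  let Ψ : K0LocLib.K X →+ Cyc.K0CohQuot δ n b := QuotientAddGroup.lift _ f (by
    rw [KZero.relSub, AddSubgroup.closure_le]
    rintro _ ⟨S, h₁, h₂, h₃, hS, rfl⟩
    simp only [f, SetLike.mem_coe, AddMonoidHom.mem_ker, map_sub, FreeAbelianGroup.lift_apply_of, Cyc.toK0CohQuot]
    rw [← QuotientAddGroup.mk_sub, ← QuotientAddGroup.mk_sub, KZero.clSub, KZero.clSub, KZero.clSub,
      dif_pos (hle _ h₁), dif_pos (hle _ h₂), dif_pos (hle _ h₃), ← QuotientAddGroup.mk_sub, ← QuotientAddGroup.mk_sub,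
      (QuotientAddGroup.eq_zero_iff (N := KZero.relSub (Cyc.CohLe δ n)) _).2
        (AddSubgroup.subset_closure ⟨S, hle _ h₁, hle _ h₂, hle _ h₃, hS, rfl⟩)]
    rfl)
  have hΨ : ∀ F : X.Modules, Coh.IsCoh F → Ψ (K0LocLib.cl F) = Cyc.toK0CohQuot δ n b F := fun F hF => by
    rw [K0LocLib.cl, KZero.clSub, dif_pos hF]
    exact FreeAbelianGroup.lift_apply_of _ _
  refine ⟨Ψ, hΨ, fun hnb => (AddSubgroup.closure_le _).2 ?_⟩
  rintro _ ⟨F, hF, hs, rfl⟩
  refine AddMonoidHom.mem_ker.2 ((hΨ F hF).trans ?_)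
  refine (QuotientAddGroup.eq_zero_iff _).2 (AddSubgroup.subset_closure ⟨F, ⟨hF, fun x hx => ?_⟩, rfl⟩)
  have h2 := delta_le hδ (hs x (not_subsingleton_iff_nontrivial.2 hx))
  omega

end Groth.Agent.DivClassKLib
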